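import Cfsg.Agent.TO.Blk
import Cfsg.Agent.TO.FO.Frame

/-!
# KM, `l = 2`, symplectic and orthogonal groups in odd characteristic: the frame (helper34)

`R` is the matrix ring with the adjoint with respect to the form, `unitary R` is the isometry group, `Y` is `Sp` or `Ω`,
`ν` is the pair (determinant, spinor norm).
-/

set_option autoImplicit false

namespace Cfsg.Agent.KM.Two

open Cfsg Cfsg.Agent.TO

/-- the frame -/
structure Fm (R : Type) [Ring R] [StarRing R] (Y : Type) [Group Y] where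
  j : Y →* unitary R
  inj : Function.Injective j
  two : IsUnit (2 : R)
  ν : unitary R →* ℤˣ × ℤˣ
  ker : ∀ g, ν g = 1 → g ∈ j.range
  det : ∀ g : unitary R, IsUnit (1 + (g : R)) → (ν g).1 = 1

/-- the inertia group centralizes a subgroup of index at most four -/
def Idx {G : Type} [Group G] (D : Subgroup G) (θ : G → ℂ) : Prop :=
  ∃ Q : Subgroup G, Q ≤ D ∧ Q.relIndex D ≤ 4 ∧ ∀ t ∈ In D θ, ∀ r ∈ Q, t * r * t⁻¹ = r

/-- [A] an abelian defect group of `Y` -/
def BoxA : Prop := ∀ (R : Type) [Ring R] [StarRing R] [Finite R] (Y : Type) [Group Y] [Finite Y] (_ : Fm R Y)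
  (M : Ideal AlgInt) (b : Set (IrrCharacter Y)) (D : Subgroup Y) (θ : Y → ℂ), Can 2 M b D θ → Idx D θ

/-- [N] an abelian defect group of `Y / ⟨-1⟩` whose preimage is not abelian -/
def BoxN : Prop := ∀ (R : Type) [Ring R] [StarRing R] [Finite R] (Y : Type) [Group Y] [Finite Y] (f : Fm R Y)
  (G : Type) [Group G] [Finite G] (π : Y →* G), Function.Surjective π →
  (∀ y, π y = 1 ↔ (f.j y : R) = 1 ∨ (f.j y : R) = -1) →
  ∀ (M : Ideal AlgInt) (b : Set (IrrCharacter G)) (D : Subgroup G) (θ : G → ℂ), Can 2 M b D θ →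
    ¬ D.comap π ≤ Ce (D.comap π) → Nat.card D ≤ 16 ∨ Idx D θ

end Cfsg.Agent.KM.Two
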