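import Cfsg.Agent.KM.Two.Inst
import Cfsg.Agent.KM.Defs
import Cfsg.Agent.LieClassical.OmegaReindex
import Cfsg.Agent.S2092
import Cfsg.Agent.S2094
import Cfsg.Agent.S2096
import Cfsg.Agent.S2097
import Cfsg.Agent.S2099

/-!
# S4999, `l = 2` : the rows of the symplectic and orthogonal groups in odd characteristic (helper36)
-/

set_option autoImplicit false
set_option linter.unusedSectionVars false

namespace Cfsg.Agent.KM.Two

open Cfsg Cfsg.Agent.KM.BK Cfsg.Agent.LieClassical.OmegaReindex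

/-- the multiplier is a `p`-group -/
theorem row_of_mult {p : ℕ} [hp : Fact p.Prime] {S : Type} [Group S] [Finite S] {A : Type} [CommGroup A]
    (hA : HasSchurMultiplier S A) {k : ℕ} (hk : Nat.card A ∣ p ^ k) (h : ∀ M, IsPModular p M → KMg p M S) : Row p S := by
  refine Row.of_kmg fun K _ _ σ M hM hK hs hσ hz => ?_
  obtain ⟨π, hπ⟩ := hA.2 K σ ⟨hs, hσ.le, hK.1.commutator_eq_top ▸ le_top⟩
  have h1 : Nat.card σ.ker = 1 := ((hp.out.coprime_iff_not_dvd.2 (hσ ▸ hz)).symm.pow_right k).eq_one_of_dvd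
    ((Subgroup.card_dvd_of_surjective π hπ).trans hk)
  exact pp_iff.1 (PP.of_equiv hM (MulEquiv.ofBijective σ
    ⟨σ.ker_eq_bot_iff.1 (Subgroup.eq_bot_of_card_eq _ h1), hs⟩).symm (pp_iff.2 (h M hM)))

theorem card_zm (n : ℕ) : n = Nat.card (Multiplicative (ZMod n)) := (Nat.card_zmod n).symm

/-- the triple cover of `Ω₇(3)` -/
def O73 : Prop := ∀ (F : Type) [Field F] [Fintype F], Fintype.card F = 3 → Row 2 (POmega F (quadFormOdd 3 F))

theorem row_psp (hA : BoxA) (hN : BoxN) : RowFor (Ev CPsp) := by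
  rintro p _ S _ _ _ - ⟨rfl, F, _, _, m, h2, hm, h3, ⟨e⟩⟩
  have h4 : (2 : F) ≠ 0 := by simpa using h2
  refine Row.of_equiv e (row_of_mult (S2092.result rfl m hm h3 fun h => h4 ?_) (k := 1)
    (card_zm _ ▸ Nat.gcd_dvd_left _ _) fun M => kmg_psp hA hN h4 (by omega))
  simpa [h.2] using FiniteField.cast_card_eq_zero F

theorem row_odd (hA : BoxA) (hN : BoxN) (h73 : O73) : RowFor (Ev COdd) := by
  rintro p _ S _ _ _ - ⟨rfl, F, _, _, m, h2, hm, h3, ⟨e⟩⟩
  have h4 : (2 : F) ≠ 0 := by simpa using h2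
  refine Row.of_equiv e ?_
  by_cases h : m = 3 ∧ Fintype.card F = 3
  · obtain ⟨rfl, h⟩ := h
    exact h73 F h
  refine row_of_mult (S2094.result rfl h3 m hm h) (k := 1) (by simp) fun M => ?_
  rw [← coe_quadOdd]
  exact kmg_pomega hA hN h4 _ (quadOdd_nondegenerate h4) (by simp; omega)

theorem row_plus (hA : BoxA) (hN : BoxN) : RowFor (Ev CPlus) := by
  rintro p _ S _ _ _ - ⟨rfl, F, _, _, m, h2, hm, ⟨e⟩⟩
  have h4 : (2 : F) ≠ 0 := by simpa using h2
  have h5 : ∀ M, IsPModular 2 M → KMg 2 M (POmega F (quadFormPlus m F)) := fun M => by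
    rw [← coe_quadPlus]
    exact kmg_pomega hA hN h4 _ quadPlus_nondegenerate (by simp; omega)
  refine Row.of_equiv e ?_
  rcases Nat.even_or_odd m with h | h
  · refine row_of_mult (S2097.result rfl m hm h fun h => h4 ?_) (k := 2) ?_ h5
    · simpa [h.2] using FiniteField.cast_card_eq_zero F
    · rw [Nat.card_congr Multiplicative.toAdd, Nat.card_prod, Nat.card_zmod]
      exact Nat.mul_dvd_mul (Nat.gcd_dvd_left 2 _) (Nat.gcd_dvd_left 2 _)
  · exact row_of_mult (S2096.result rfl m (by obtain ⟨k, rfl⟩ := h; omega) h) (k := 2)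
      (card_zm _ ▸ Nat.gcd_dvd_left _ _) h5

theorem row_minus (hA : BoxA) (hN : BoxN) : RowFor (Ev CMinus) := by
  rintro p _ S _ _ _ - ⟨rfl, F, _, _, m, a, b, h2, hm, hab, ⟨e⟩⟩
  have h4 : (2 : F) ≠ 0 := by simpa using h2
  refine Row.of_equiv e (row_of_mult (S2099.result rfl m hm a b hab) (k := 2) (card_zm _ ▸ Nat.gcd_dvd_left _ _)
    fun M => ?_)
  rw [← coe_quadMinus]
  exact kmg_pomega hA hN h4 _ (quadMinus_nondegenerate hab) (by simp; omega)

end Cfsg.Agent.KM.Two
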