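import Cfsg.Agent.KM.Two.Blk
import Cfsg.Agent.KM.Two.Defs
import Cfsg.Agent.KM.BK.Main
import Cfsg.Agent.S4577

/-!
# S4999, `l = 2` : domination, small defect groups, and the row of a frame (helper36)
-/

set_option autoImplicit false
set_option linter.unusedSectionVars false

namespace Cfsg.Agent.KM.Two

open Cfsg Cfsg.Agent.Blocks.Basic Cfsg.Agent.Blocks.Local Cfsg.Agent.H649 Cfsg.Agent.KM.BK
open Cfsg.Agent.H644.CentralQuot (defl infl isPBlock_defl)

universe u v

section dom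

variable {p : ℕ} [Fact p.Prime] {M : Ideal AlgInt} {Y : Type u} [Group Y] [Finite Y]

theorem dom_quot (hM : IsPModular p M) {U : Subgroup Y} [U.Normal] (hU : U ≤ Subgroup.center Y) (hp : IsPGroup p U)
    {b : Set (IrrCharacter (Y ⧸ U))} (hb : IsPBlock M b) {D : Subgroup (Y ⧸ U)} (hD : IsDefectGroup p M b D) :
    ∃ B : Set (IrrCharacter Y), IsPBlock M B ∧ IsDefectGroup p M B (D.comap (QuotientGroup.mk' U)) ∧
      (HZ p B → HZ p b) := by
  have := isPrime_of_isPModular hM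
  have := Fintype.ofFinite Y
  obtain ⟨θ, hθ⟩ := isPBlock_nonempty hb
  have hB : IsPBlock M (blockOf M (infl U θ : Y → ℂ)) := isPBlock_blockOf _
  have h1 : defl U (blockOf M (infl U θ : Y → ℂ)) = b :=
    isPBlock_eq_of_mem (isPBlock_defl hM hU hp hB) hb (mem_blockOf_self (infl U θ)) hθ
  generalize blockOf M (infl U θ : Y → ℂ) = B at hB h1
  subst h1
  obtain ⟨E, hE⟩ := H644.exists_isDefectGroup hM hB
  obtain ⟨x, hx⟩ := TID.Red.conj_defect hM hb (H658.isDefectGroup_defl hM hU hp hB hE).2 hD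
  obtain ⟨y, rfl⟩ := QuotientGroup.mk'_surjective U x
  have hE' := isDefectGroup_conj hE y
  refine ⟨B, hB, ?_, fun h => eq_iff_hz.1 fun χ hχ ψ hψ => ?_⟩
  · have h2 : (E.map (MulAut.conj y).toMonoidHom).map (QuotientGroup.mk' U) = D := by
      rw [← hx, Subgroup.map_map, Subgroup.map_map]
      rfl
    rwa [← h2, Subgroup.comap_map_eq_self (by
      rw [QuotientGroup.ker_mk']; exact (H658.isDefectGroup_defl hM hU hp hB hE').1)]
  · rw [← nu_infl U χ, ← nu_infl U ψ]
    exact eq_iff_hz.2 h _ hχ _ hψ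

/-- **domination** -/
theorem dom (hM : IsPModular p M) {G : Type v} [Group G] [Finite G] (π : Y →* G) (hπ : Function.Surjective π)
    (hU : π.ker ≤ Subgroup.center Y) (hp : IsPGroup p π.ker) {b : Set (IrrCharacter G)} (hb : IsPBlock M b)
    {D : Subgroup G} (hD : IsDefectGroup p M b D) :
    ∃ B : Set (IrrCharacter Y), IsPBlock M B ∧ IsDefectGroup p M B (D.comap π) ∧ (HZ p B → HZ p b) := by
  let e := (QuotientGroup.quotientKerEquivOfSurjective π hπ).symm
  obtain ⟨B, hB, h1, h2⟩ := dom_quot hM hU hp (isPBlock_blkMap (e := e) hb) (isDefectGroup_blkMap (e := e) hD)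
  refine ⟨B, hB, ?_, fun h => eq_iff_hz.1 fun χ hχ ψ hψ => ?_⟩
  · rwa [MulEquiv.toMonoidHom_eq_coe, Subgroup.map_equiv_eq_comap_symm, Subgroup.comap_comap] at h1
  · have h3 := eq_iff_hz.2 (h2 h) _ (irrMap_mem_blkMap.2 hχ) _ (irrMap_mem_blkMap.2 hψ)
    unfold nu at h3 ⊢
    rwa [charDegree_irrMap, charDegree_irrMap] at h3

end dom

theorem hz_pow {M : Ideal AlgInt} (hM : IsPModular 2 M) (k : ℕ) : ∀ (G : Type u) [Group G] [Finite G]
    (B : Set (IrrCharacter G)) (D : Subgroup G), IsPBlock M B → IsDefectGroup 2 M B D → Ab D →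
      Nat.card D * 2 ^ k = 16 → HZ 2 B := by
  have : Fact (Nat.Prime 2) := ⟨Nat.prime_two⟩
  induction k with
  | zero =>
    intro G _ _ B D hB hD hab h χ hχ
    have h1 := (S4577.result M hM B hB D hD (by simpa using h) χ hχ).1
    rw [Subgroup.center_eq_top_iff.2 (ab_iff.1 hab), Subgroup.index_top, Nat.factorization_one] at h1
    exact Nat.le_zero.1 h1
  | succ k ih =>
    intro G _ _ B D hB hD hab h
    have hk : (MonoidHom.fst G (Multiplicative (ZMod 2))).ker = (⊥ : Subgroup G).prod ⊤ := MonoidHom.ker_fst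
    have hc : ∀ E : Subgroup G, Nat.card (E.prod (⊤ : Subgroup (Multiplicative (ZMod 2)))) = Nat.card E * 2 := fun E => by
      rw [Nat.card_congr (Subgroup.prodEquiv _ _).toEquiv, Nat.card_prod, Subgroup.card_top]
      simp
    obtain ⟨B', h1, h2, h3⟩ := dom hM (MonoidHom.fst G (Multiplicative (ZMod 2))) Prod.fst_surjective
      (fun y hy => Subgroup.mem_center_iff.2 fun g => Prod.ext (by
        rw [Prod.fst_mul, Prod.fst_mul, show y.1 = 1 from hy, mul_one, one_mul]) (mul_comm _ _))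
      (IsPGroup.of_card (n := 1) (by rw [hk, hc, Subgroup.card_bot]; rfl)) hB hD
    refine h3 (ih _ B' _ h1 h2 (fun x hx y hy => Prod.ext (hab _ hx _ hy) (mul_comm _ _)) ?_)
    rw [← Subgroup.prod_top, hc, ← h, pow_succ', mul_assoc]

/-- **abelian defect groups of order at most sixteen** -/
theorem hz_small {G : Type u} [Group G] [Finite G] {M : Ideal AlgInt} {B : Set (IrrCharacter G)} {D : Subgroup G}
    (hM : IsPModular 2 M) (hB : IsPBlock M B) (hD : IsDefectGroup 2 M B D) (hab : Ab D) (h16 : Nat.card D ≤ 16) :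
    HZ 2 B := by
  have : Fact (Nat.Prime 2) := ⟨Nat.prime_two⟩
  obtain ⟨n, hn⟩ := IsPGroup.iff_card.1 (H592.Defect.isPGroup_of_isDefectGroup hD)
  have h4 : n ≤ 4 := (Nat.pow_le_pow_iff_right (n := n) (m := 4) one_lt_two).1 (hn ▸ h16)
  exact hz_pow hM (4 - n) G B D hB hD hab (by rw [hn, ← pow_add, Nat.add_sub_cancel' h4]; rfl)

/-- **the row of a frame** -/
theorem kmg_of_fm (hA : BoxA) (hN : BoxN) {R : Type} [Ring R] [StarRing R] [Finite R] {Y : Type} [Group Y] [Finite Y]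
    (f : Fm R Y) {G : Type} [Group G] [Finite G] (π : Y →* G) (hπ : Function.Surjective π)
    (hU : ∀ y, π y = 1 ↔ (f.j y : R) = 1 ∨ (f.j y : R) = -1) {M : Ideal AlgInt} (hM : IsPModular 2 M) :
    KMg 2 M G := by
  have : Fact (Nat.Prime 2) := ⟨Nat.prime_two⟩
  intro b D hb hD hab
  have ha := ab_iff.2 hab
  by_cases h : D.comap π ≤ TO.Ce (D.comap π)
  · have h1 : π.ker ≤ Subgroup.center Y := fun y hy => Subgroup.mem_center_iff.2 fun g => f.inj (Subtype.ext (by
      rw [map_mul, map_mul, Submonoid.coe_mul, Submonoid.coe_mul]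
      rcases (hU y).1 hy with h | h <;> simp [h]))
    have h2 : IsPGroup 2 π.ker := fun y => ⟨1, Subtype.ext (f.inj (Subtype.ext (by
      rw [pow_one, Subgroup.coe_pow, map_pow, SubmonoidClass.coe_pow, Subgroup.coe_one, map_one]
      rcases (hU y).1 y.2 with h | h <;> simp [h])))⟩
    obtain ⟨B, hB, hE, h3⟩ := dom hM π hπ h1 h2 hb hD
    obtain ⟨θ, hθ⟩ := TO.boxCAN0 Y 2 M B _ hM hB hE h
    obtain ⟨Q, h4, h5, h6⟩ := hA R Y f M B _ θ hθ
    exact h3 (hz_of_idx hθ Q h4 h5 h6)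
  · obtain ⟨θ, hθ⟩ := TO.boxCAN0 _ 2 M b D hM hb hD ha.le_centralizer
    rcases hN R Y f G π hπ hU M b D θ hθ h with h1 | ⟨Q, h4, h5, h6⟩
    · exact hz_small hM hb hD ha h1
    · exact hz_of_idx hθ Q h4 h5 h6

end Cfsg.Agent.KM.Two
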