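import Cfsg.Agent.KM.Two.Defs
import Cfsg.Agent.TO.T3.KF
import Cfsg.Agent.ODD.Red.Cmp
import Cfsg.Agent.Blocks.CliffordCentral

/-!
# KM, `l = 2` : a constituent of the canonical character (helper34)
-/

set_option autoImplicit false
set_option linter.unusedSectionVars false
set_option maxHeartbeats 200000

namespace Cfsg.Agent.KM.Two

open Cfsg Cfsg.Agent.TO Subgroup Cfsg.Agent.Characters.Core Cfsg.Agent.Characters

variable {G : Type} [Group G] [Finite G] {p : ℕ} [Fact p.Prime] {M : Ideal AlgInt} {b : Set (IrrCharacter G)}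
  {D : Subgroup G} {θ : G → ℂ}

theorem conj_Ce {y c : G} (hy : y ∈ normalizer (D : Set G)) (hc : c ∈ Ce D) : y * c * y⁻¹ ∈ Ce D := fun d hd => by
  have h1 := hc _ ((mem_normalizer_iff.1 (inv_mem hy) d).1 hd)
  calc d * (y * c * y⁻¹) = y * (y⁻¹ * d * y⁻¹⁻¹ * c) * y⁻¹ := by group
    _ = y * c * y⁻¹ * d := by rw [h1]; group

/-- conjugation on an invariant subgroup -/
def cjH {H : Subgroup G} (y : G) (h : ∀ c ∈ H, y * c * y⁻¹ ∈ H) : H →* H :=
  ((MulAut.conj y).toMonoidHom.comp H.subtype).codRestrict H fun c => h c c.2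

theorem cjH_bij {H : Subgroup G} (y : G) (h : ∀ c ∈ H, y * c * y⁻¹ ∈ H) : Function.Bijective (cjH y h) :=
  Finite.injective_iff_bijective.1 fun _ _ e => Subtype.ext ((MulAut.conj y).injective (congrArg Subtype.val e))

/-- a constituent of the canonical character on a subgroup which contains the regular elements -/
theorem exists_eta (h : Can p M b D θ) {N : Subgroup G} (h1 : N ≤ Ce D)
    (h2 : ∀ y ∈ normalizer (D : Set G), ∀ n ∈ N, y * n * y⁻¹ ∈ N) (h3 : ∀ u ∈ Ce D, ¬ p ∣ orderOf u → u ∈ N) :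
    ∃ η : G → ℂ, η 1 ≠ 0 ∧
      (∀ a ∈ N, ∀ c ∈ N, (∀ y ∈ N, ∃ z ∈ N, y * a * y⁻¹ * c = z * (a * c) * z⁻¹) → η (a * c) * η 1 = η a * η c) ∧
      (∀ t ∈ In D θ, ∃ c ∈ Ce D, ∀ n ∈ N, η (t * c * n * (t * c)⁻¹) = η n) ∧
      ∀ y ∈ normalizer (D : Set G), (∀ n ∈ N, η (y * n * y⁻¹) = η n) → y ∈ In D θ := by
  classical
  let K : Subgroup (Ce D) := N.subgroupOf (Ce D)
  have : K.Normal := ⟨fun n hn g => h2 g (centralizer_le_normalizer _ g.2) n hn⟩
  have := Fintype.ofFinite K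
  have := Fintype.ofFinite (Ce D)
  obtain ⟨f, hf⟩ := Blocks.Fong.exists_constituent K h.chr
  let η : G → ℂ := fun g => if hg : g ∈ N then f.1 ⟨⟨g, h1 hg⟩, hg⟩ else 0
  have e : ∀ n : K, η n = f.1 n := fun n => dif_pos n.2
  let γ : ∀ y ∈ normalizer (D : Set G), K →* K := fun y hy =>
    ((cjH y fun c => conj_Ce hy).comp K.subtype).codRestrict K fun n => h2 y hy n n.2
  have hγ : ∀ y hy, Function.Bijective (γ y hy) := fun y hy => Finite.injective_iff_bijective.1 fun a c e =>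
    Subtype.ext ((cjH_bij y fun c => conj_Ce hy).1 (congrArg Subtype.val e))
  refine ⟨η, ?_, fun a ha c hc h4 => ?_, fun t ht => ?_, fun y hy h4 => ?_⟩
  · exact (e 1).trans_ne (isIrr_apply_one_ne_zero f.2)
  · have h5 := ODD.Red.mul_formula f.2 (a := ⟨⟨a, h1 ha⟩, ha⟩) (b := ⟨⟨c, h1 hc⟩, hc⟩) fun y => by
      obtain ⟨z, hz, e⟩ := h4 y y.2
      exact ⟨⟨⟨z, h1 hz⟩, hz⟩, Subtype.ext (Subtype.ext e)⟩
    rwa [← e, ← e, ← e, ← e] at h5
  · have h4 := In_le_norm ht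
    obtain ⟨h5, h6⟩ := T3.KF.comp_mem (χ := fun c : Ce D => θ c) (γ t h4) (hγ t h4) (fun n => ht.2 n) f.2 hf
    obtain ⟨c, hc⟩ := Clifford.exists_conj_of_constituents K h.irr h5 f.2 h6 hf
    refine ⟨c, c.2, fun n hn => ?_⟩
    have h7 := congrFun hc ⟨⟨n, h1 hn⟩, hn⟩
    rw [← e, Function.comp_apply, Function.comp_apply, ← e] at h7
    refine Eq.trans (congrArg η ?_) h7.symm
    show _ = t * (c * n * (c : G)⁻¹) * t⁻¹
    group
  · let χ : IrrCharacter (Ce D) := ⟨fun c => θ (y * c * y⁻¹), isIrr_comp (cjH y fun c => conj_Ce hy) (cjH_bij _ _).2 h.irr⟩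
    have h5 : classInner (fun n : K => χ.1 n) f.1 ≠ 0 := fun h6 => hf (Eq.trans ?_ h6)
    swap
    · rw [classInner_def, classInner_def, ← Equiv.sum_comp (Equiv.ofBijective _ (hγ y hy))]
      refine congrArg _ (Finset.sum_congr rfl fun n _ => congrArg₂ (· * ·) rfl (congrArg _ ?_))
      exact ((e _).symm.trans (h4 n n.2)).trans (e n)
    have h6 : ∀ n ∈ N, θ (y * n * y⁻¹) = θ n := fun n hn => by
      have h7 := (Blocks.CliffordCentral.centralChar_eq_inducedCentralChar K χ f h5 ⟨⟨n, h1 hn⟩, hn⟩).trans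
        (Blocks.CliffordCentral.centralChar_eq_inducedCentralChar K h.chr f hf ⟨⟨n, h1 hn⟩, hn⟩).symm
      have h8 : χ.1 1 = θ 1 := congrArg θ (by simp)
      rw [centralChar, centralChar, h8] at h7
      exact mul_left_cancel₀ (Nat.cast_ne_zero.2 index_ne_zero_of_finite) ((div_left_inj' h.one_ne).1 h7)
    refine ⟨fun x => (mem_normalizer_iff.1 hy x).symm, fun g => ?_⟩
    show θ (y * g * y⁻¹) = θ g
    by_cases hg : g ∈ Ce D
    · obtain ⟨x, u, rfl, h7, h8, h9, h10, h11⟩ := Blocks.RegularCount.exists_pPart (p := p) g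
      by_cases hx : x ∈ D
      · rw [show y * (x * u) * y⁻¹ = y * x * y⁻¹ * (y * u * y⁻¹) by group, h.mul' hx,
          h.mul' ((mem_normalizer_iff.1 hy x).1 hx), h6 u (h3 u (zpowers_le.2 hg h9) h11)]
      · rw [h.van ⟨u, rfl, h7, h10, h11⟩ hx]
        refine h.van (x := y * x * y⁻¹) ⟨y * u * y⁻¹, by group, h7.map (MulAut.conj y), ?_, ?_⟩
          fun e => hx ((mem_normalizer_iff.1 hy x).2 e)
        · rwa [← MulAut.conj_apply, MulEquiv.orderOf_eq]
        · rwa [← MulAut.conj_apply, MulEquiv.orderOf_eq]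
    · rw [h.zero g hg, h.zero _ fun e => hg (by simpa [mul_assoc] using conj_Ce (inv_mem hy) e)]

/-- the `p`-elements of the inertia group centralize `D` -/
theorem mem_Ce_of_pow (h : Can p M b D θ) {y : G} (hy : y ∈ In D θ) {k : ℕ} (hk : y ^ p ^ k ∈ Ce D) : y ∈ Ce D := by
  have := Cn.normal_Ce (D := D) (θ := θ)
  have h1 : y ^ (Ce D).relIndex (In D θ) ∈ Ce D := pow_index_mem ((Ce D).subgroupOf (In D θ)) ⟨y, hy⟩
  have h2 : (p ^ k).Coprime ((Ce D).relIndex (In D θ)) :=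
    Nat.Coprime.pow_left k ((Nat.Prime.coprime_iff_not_dvd Fact.out).2 h.idx)
  have h3 := mul_mem (zpow_mem hk ((p ^ k).gcdA ((Ce D).relIndex (In D θ))))
    (zpow_mem h1 ((p ^ k).gcdB ((Ce D).relIndex (In D θ))))
  rwa [← zpow_natCast, ← zpow_natCast, ← zpow_mul, ← zpow_mul, ← zpow_add, ← Nat.gcd_eq_gcd_ab, h2.gcd_eq_one,
    Nat.cast_one, zpow_one] at h3

/-- a power with an exponent prime to `p` centralizes `D` -/
theorem exists_pow_Ce (h : Can p M b D θ) {y : G} (hy : y ∈ In D θ) : ∃ n : ℕ, ¬ p ∣ n ∧ y ^ n ∈ Ce D :=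
  have := Cn.normal_Ce (D := D) (θ := θ)
  ⟨_, h.idx, pow_index_mem ((Ce D).subgroupOf (In D θ)) ⟨y, hy⟩⟩

end Cfsg.Agent.KM.Two
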