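import Cfsg.Agent.KM.Two.Nab3
import Cfsg.Agent.KM.Two.Chr

/-!
# KM, `l = 2` : the box `BoxN` (helper34)
-/

set_option autoImplicit false
set_option linter.unusedSectionVars false
set_option maxHeartbeats 200000

namespace Cfsg.Agent.KM.Two

open Subgroup Cfsg Cfsg.Agent.TO

theorem comm_of_sq {G : Type} [Group G] {t r : G} {n : ℕ} (hn : ¬ 2 ∣ n) (h1 : Commute (t ^ n) r) (h2 : Commute (t * t) r) :
    Commute t r := by
  obtain ⟨m, rfl⟩ : ∃ m, n = 2 * m + 1 := ⟨n / 2, by omega⟩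
  have h3 := ((h2.pow_left m).inv_left).mul_left h1
  rwa [pow_succ, pow_mul, pow_two, inv_mul_cancel_left] at h3

theorem boxN : BoxN := by
  intro R _ _ _ Y _ _ f G _ _ π hπ hk M b D θ h hne
  obtain ⟨K, hS⟩ := exists_st f hπ (fun y => (hk y).1) h
  have h1 : ∀ a c : Y, π a = π c → f.j a = f.j c ∨ f.j a = -f.j c := fun a c e => by
    have h2 := (hk (a * c⁻¹)).1 (by rw [map_mul, map_inv, e, mul_inv_cancel])
    rw [map_mul, map_inv] at h2
    exact h2.imp (fun e => mul_inv_eq_one.1 (Subtype.ext e)) fun e => by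
      rw [← neg_one_mul]; exact mul_inv_eq_iff_eq_mul.1 (Subtype.ext e)
  have h2 : ∀ x ∈ (D.comap π).map f.j, ∀ y ∈ (D.comap π).map f.j, x * y = y * x ∨ x * y = -(y * x) := by
    rintro _ ⟨a, ha, rfl⟩ _ ⟨c, hc, rfl⟩
    rw [← map_mul, ← map_mul]
    exact h1 _ _ (by rw [map_mul, map_mul]; exact h.ab hc _ ha)
  obtain ⟨a, ha, c, hc, h3⟩ : ∃ a ∈ D.comap π, ∃ c ∈ D.comap π, c * a ≠ a * c := by
    by_contra h3
    exact hne fun a ha c hc => by_contra fun e => h3 ⟨a, ha, c, hc, e⟩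
  have h4 : f.j c * f.j a ≠ f.j a * f.j c := fun e => h3 (f.inj (by rw [map_mul, map_mul, e]))
  have h5 := (h2 _ (mem_map_of_mem _ hc) _ (mem_map_of_mem _ ha)).resolve_left h4
  have h0 : (1 : R) ≠ 0 := fun e => h4 (Subtype.ext ((subsingleton_of_zero_eq_one e.symm).elim _ _))
  have h6 : f.j (c * a * (a * c)⁻¹) = -1 := by rw [map_mul, map_inv, map_mul, map_mul, h5, neg_mul, mul_inv_cancel]
  have h7 : c * a * (a * c)⁻¹ ∈ D.comap π := mul_mem (mul_mem hc ha) (inv_mem (mul_mem ha hc))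
  have hN : SN f.ν f.j.range ((D.comap π).map f.j) K := ⟨hS, fun x hx y hy =>
    (h2 x hx y hy).imp (congrArg Subtype.val) (congrArg Subtype.val), ⟨_, h7, h6⟩⟩
  have hD := map_comap_eq_self_of_surjective hπ D
  refine (hN.core h0 (mem_map_of_mem _ hc) (mem_map_of_mem _ ha) h5).imp (fun h8 => ?_) fun ⟨h8, h9⟩ => ?_
  · rw [card_map_of_injective f.inj, ← card_mul_index (π.ker.subgroupOf (D.comap π)), ← relIndex, relIndex_ker,
      hD] at h8
    have h9 : 1 < Nat.card (π.ker.subgroupOf (D.comap π)) := (one_lt_card_iff_ne_bot _).2 fun e => by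
      have h9 : (⟨_, h7⟩ : D.comap π) ∈ π.ker.subgroupOf (D.comap π) := (hk _).2 (.inr (congrArg Subtype.val h6))
      rw [e, mem_bot] at h9
      exact h3 (mul_inv_eq_one.1 (Subtype.ext_iff.1 h9))
    nlinarith
  · generalize hE : (D.comap π).map f.j = E at h8 h9 hN
    refine ⟨((Z0 E).comap f.j).map π, ?_, ?_, ?_⟩
    · rintro _ ⟨y, hy, rfl⟩
      obtain ⟨x, hx, e⟩ := (hE ▸ hy.1 : f.j y ∈ (D.comap π).map f.j)
      exact f.inj e ▸ hx
    · rw [← hD, ← relIndex_comap]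
      refine (relIndex_le_of_le_left (le_comap_map _ _) index_ne_zero_of_finite).trans ?_
      rwa [relIndex_comap, hE]
    · rintro t ht _ ⟨y, hy, rfl⟩
      obtain ⟨s, rfl⟩ := hπ t
      obtain ⟨n, hn, h10⟩ := exists_pow_Ce h ht
      have h11 : ∀ s, π s ∈ normalizer (D : Set G) → ∀ d ∈ E, f.j s * d * (f.j s)⁻¹ ∈ E := fun s hs => by
        rw [← hE]
        rintro _ ⟨d, hd, rfl⟩
        rw [← map_inv, ← map_mul, ← map_mul]
        refine mem_map_of_mem _ (show π _ ∈ D from ?_)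
        rw [map_mul, map_mul, map_inv]
        exact (mem_normalizer_iff.1 hs _).1 hd
      have h12 : ∀ w ∈ Z0 E, f.j s * w * (f.j s)⁻¹ ∈ Z0 E := fun w hw => mem_Z0.2 ⟨h11 s (In_le_norm ht) w hw.1,
        cj_mem_Cm (by rw [← map_inv]; exact h11 _ (by rw [map_inv]; exact inv_mem (In_le_norm ht))) (mem_Z0.1 hw).2⟩
      have h13 : ∀ {σ w : unitary R}, σ * w * σ⁻¹ = w ∨ σ * w * σ⁻¹ = -w → σ * σ * w * (σ * σ)⁻¹ = w := fun {σ w} e => by
        rw [show σ * σ * w * (σ * σ)⁻¹ = σ * (σ * w * σ⁻¹) * σ⁻¹ by group]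
        rcases e with e | e
        · rw [e, e]
        · rw [e, mul_neg, neg_mul, e, neg_neg]
      have h14 : ∀ d ∈ D, Commute (π s ^ n) d := fun d hd => (h10 d hd).symm
      have h15 := fix_of_omega (Z := Z0 E) (t := f.j s * f.j s) (fun x hx y hy => comm_Z0 hy hx.1) (fun w hw => by
        rw [show f.j s * f.j s * w * (f.j s * f.j s)⁻¹ = f.j s * (f.j s * w * (f.j s)⁻¹) * (f.j s)⁻¹ by group]
        exact h12 _ (h12 w hw)) hn (fun w hw => by
        obtain ⟨x, hx, rfl⟩ := (hE ▸ hw.1 : w ∈ (D.comap π).map f.j)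
        rw [(Commute.refl _).mul_pow]
        refine mul_inv_eq_iff_eq_mul.1 (h13 ?_)
        rw [← map_pow, ← map_inv, ← map_mul, ← map_mul]
        exact h1 _ _ (by rw [map_mul, map_mul, map_inv, map_pow, (h14 _ hx).eq, mul_inv_cancel_right]))
        (fun w hw e => h13 (by
          rcases h9 w hw _ (h12 w hw) e (by rw [conj_mul, e, mul_one, mul_inv_cancel]) with e | e | e | e | e | e
          · exact .inl (by simp [e])
          · exact .inl (by simp [e])
          · exact .inl (by rw [e, conj_eq_one_iff.1 e])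
          · exact .inl (by rw [e, ← neg_neg w, conj_eq_one_iff.1 (show f.j s * -w * (f.j s)⁻¹ = 1 by
              rw [mul_neg, neg_mul, e, neg_neg])])
          · exact .inl e
          · exact .inr e)) K _ hy (hN.pg _ hy.1)
      rw [← map_mul, ← map_inv, ← map_mul, ← map_mul] at h15
      have h16 := congrArg π (f.inj h15)
      rw [map_mul, map_mul, map_mul, map_inv, map_mul] at h16
      obtain ⟨x, hx, e⟩ := (hE ▸ hy.1 : f.j y ∈ (D.comap π).map f.j)
      exact mul_inv_eq_iff_eq_mul.2 (comm_of_sq hn (h14 _ (f.inj e ▸ hx)) (mul_inv_eq_iff_eq_mul.1 h16))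

end Cfsg.Agent.KM.Two
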