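import Cfsg.Agent.KM.Two.Nab2

/-!
# KM, `l = 2` : a group whose commutators are `± 1`, non-central involutions (helper34)
-/

set_option autoImplicit false
set_option linter.unusedSectionVars false
set_option maxHeartbeats 200000

namespace Cfsg.Agent.KM.Two

open Subgroup

variable {R : Type} [Ring R] [StarRing R] [Finite R] {e f a : R} {c g t u d w x y z : unitary R}
  {J E : Subgroup (unitary R)} {ν : unitary R →* ℤˣ × ℤˣ} {K : ℕ}

theorem SN.cutN (h : SN ν J E K) (hz : z ∈ E) (he : Pj e) (hze : (z : R) = 1 - 2 * e) (hy : y ∈ E)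
    (hzy : (z : R) * y = -(y * z)) (hu : u ∈ E) (hue : Commute (u : R) e) (h1 : u * u = 1 ∨ u * u = -1)
    (h2 : ν (cut u e) = 1) : (u : R) * e = e ∨ (u : R) * e = -e := by
  have h3 := h.cut_mem hz he hze hu hue (.inr h1) h2
  have h4 : e * y = y * (1 - e) := by rw [mul_sub, anti_pj h.two hze hzy]; noncomm_ring
  have h5 : ∀ {a c : R}, a * y = c * y → a = c := fun h5 => (Unitary.toUnits y).isUnit.mul_right_cancel h5
  rw [← cut_e he hue]
  refine (h.hc _ h3 y hy).imp (fun h6 => h5 ?_) fun h6 => h5 ?_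
  · rw [mul_assoc, h4, ← mul_assoc, h6, mul_assoc, cut_e' he hue]
  · rw [mul_assoc, neg_mul, h4, ← mul_assoc, h6, neg_mul, mul_assoc, cut_e' he hue]

theorem SN.sq_mem (h : SN ν J E K) (hx : x ∈ E) : x * x ∈ Z0 E := mem_Z0.2 ⟨mul_mem hx hx, mem_Cm.2 fun d hd => by
  rcases h.hc x hx d hd with h1 | h1
  · exact ((show Commute (x : R) d from h1).mul_left h1).symm
  · show _ * ((x : R) * x) = x * x * _
    rw [mul_assoc, h1, mul_neg, ← mul_assoc, ← mul_assoc, h1, neg_mul, neg_neg]⟩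

theorem comm_Z0 (hw : w ∈ Z0 E) (hx : x ∈ E) : Commute x w := hw.2 x hx

theorem SN.pick (h : SN ν J E K) (hB : ∀ w ∈ Z0 E, w * w = 1 → w = 1 ∨ w = -1) (hc : c ∈ Z0 E) (h1 : c * c = -1)
    (hx : x ∈ E) (hy : y ∈ E) (hxy : x * y = -(y * x)) : ∃ z ∈ E, ∃ v ∈ E, z * z = 1 ∧ z * v = -(v * z) ∧
      ∀ a ∈ E, Commute a x → Commute a y → Commute a z ∧ Commute a v := by
  have key : ∀ {x y w : unitary R}, x ∈ E → y ∈ E → w ∈ Z0 E → x * y = -(y * x) → x * x = w * w →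
      x * w⁻¹ * (x * w⁻¹) = 1 ∧ x * w⁻¹ * y = -(y * (x * w⁻¹)) := fun {x y w} hx hy hw h1 h2 =>
    ⟨by rw [(comm_Z0 (inv_mem hw) hx).symm.mul_mul_mul_comm, h2]; group,
      by rw [mul_assoc, ← (comm_Z0 (inv_mem hw) hy).eq, ← mul_assoc, h1, neg_mul, mul_assoc]⟩
  obtain ⟨w, hw, h2 | h2 | h2⟩ := sq3 (fun x hx y hy => comm_Z0 hy hx.1) hB (h.sq_mem hx) (h.sq_mem hy)
  · exact ⟨_, mul_mem hx (inv_mem hw.1), y, hy, (key hx hy hw hxy h2).1, (key hx hy hw hxy h2).2,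
      fun a ha h3 h4 => ⟨h3.mul_right (comm_Z0 (inv_mem hw) ha), h4⟩⟩
  · have h3 : y * x = -(x * y) := by rw [hxy, neg_neg]
    exact ⟨_, mul_mem hy (inv_mem hw.1), x, hx, (key hy hx hw h3 h2).1, (key hy hx hw h3 h2).2,
      fun a ha h3 h4 => ⟨h4.mul_right (comm_Z0 (inv_mem hw) ha), h3⟩⟩
  · have h3 := key (mul_mem hx hy) hy (mul_mem hc hw) (by rw [← mul_assoc, ← neg_mul, ← hxy]) (by
      rw [(comm_Z0 hc hw.1).mul_mul_mul_comm, h1, ← h2, mul_assoc x x (y * y), ← mul_assoc x y y, mul_assoc x y (x * y),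
        ← mul_assoc y x y, hxy]
      simp [mul_assoc])
    exact ⟨_, mul_mem (mul_mem hx hy) (inv_mem (mul_mem hc hw).1), y, hy, h3.1, h3.2,
      fun a ha h3 h4 => ⟨(h3.mul_right h4).mul_right (comm_Z0 (inv_mem (mul_mem hc hw)) ha), h4⟩⟩

theorem SN.hc' (h : SN ν J E K) (hx : x ∈ E) (hy : y ∈ E) : Commute x y ∨ x * y = -(y * x) :=
  (h.hc x hx y hy).imp Subtype.ext Subtype.ext

theorem SN.exists_anti (h : SN ν J E K) (hx : x ∈ E) (h1 : x ∉ Z0 E) : ∃ b ∈ E, x * b = -(b * x) := by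
  by_contra h2
  exact h1 ⟨hx, fun b hb => ((h.hc' hx hb).resolve_right fun e => h2 ⟨b, hb, e⟩).symm⟩

theorem SN.caseB1 (h : SN ν J E K) (h0 : (1 : R) ≠ 0) (hB : ∀ w ∈ Z0 E, w * w = 1 → w = 1 ∨ w = -1) (hc : c ∈ Z0 E)
    (h1 : c * c = -1) (hx : x ∈ E) (hy : y ∈ E) (hxy : x * y = -(y * x)) (hu : u ∈ E) (hux : Commute u x)
    (huy : Commute u y) : u ∈ Z0 E := by
  by_contra h2
  obtain ⟨z, hz, v, hv, z1, z2, z3⟩ := h.pick hB hc h1 hx hy hxy
  obtain ⟨h3, h4⟩ := z3 u hu hux huy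
  obtain ⟨b, hb, b1, b2⟩ : ∃ b ∈ E, u * b = -(b * u) ∧ Commute z b := by
    obtain ⟨b, hb, b1⟩ := h.exists_anti hu h2
    rcases h.hc' hz hb with h5 | h5
    · exact ⟨b, hb, b1, h5⟩
    · refine ⟨b * v, mul_mem hb hv, by rw [← mul_assoc, b1, neg_mul, mul_assoc, h4.eq, mul_assoc], ?_⟩
      show z * (b * v) = b * v * z
      rw [← mul_assoc, h5, neg_mul, mul_assoc, z2, mul_neg, neg_neg, mul_assoc]
  obtain ⟨a, ha, d, hd, a1, a2, a3⟩ := h.pick hB hc h1 hu hb b1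
  obtain ⟨a4, a5⟩ := a3 z hz h3.symm b2
  obtain ⟨e, he, hze, h5⟩ := exists_pj h.two z1
  have h6 : ∀ {g : unitary R}, Commute z g → Commute (g : R) e := fun hg => (h5 _ (congrArg Subtype.val hg)).symm
  have z2' : (z : R) * v = -(v * z) := congrArg Subtype.val z2
  have e0 : e ≠ 0 := fun e0 => anti_ne h.two h0 z2' (by rw [hze, e0, mul_zero, sub_zero]; exact Commute.one_left _)
  have key : ∀ g ∈ E, Commute z g → g * g = -1 → (ν (cut g e)).1 = 1 ∧ ν (cut g e) ≠ 1 := fun g hg g1 g2 => by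
    have g3 : (g : R) * g = -1 := congrArg Subtype.val g2
    refine ⟨h.det _ (unit_add h.two (cut_ce he (h6 g1)) (cut_e' he (h6 g1)) (k := 0) ?_), fun g4 => e0 ?_⟩
    · rw [zero_add, pow_one, pow_two, ← coe_mul', ← cut_mul he (h6 g1) (h6 g1), cut_e he (h6 (g1.mul_right g1)), coe_mul',
        g3, neg_one_mul]
    · refine eq_zero_of_neg h.two ?_
      rw [← neg_one_mul, ← g3, mul_assoc]
      rcases h.cutN hz he hze hv z2' hg (h6 g1) (.inr g2) g4 with g5 | g5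
      · rw [g5, g5]
      · rw [g5, mul_neg, g5, neg_neg]
  have c1 : Commute z c := comm_Z0 hc hz
  obtain ⟨k1, k2⟩ := key c hc.1 c1 h1
  obtain ⟨k3, k4⟩ := key (c * a) (mul_mem hc.1 ha) (c1.mul_right a4) (by
    rw [(comm_Z0 hc ha).mul_mul_mul_comm, h1, a1, mul_one])
  rw [cut_mul he (h6 c1) (h6 a4), map_mul] at k3 k4
  rw [Prod.fst_mul, k1, one_mul] at k3
  have k5 := h.cutN hz he hze hv z2' ha (h6 a4) (.inl a1) (((v2 _ _ k1 k3).resolve_left k2).resolve_right k4)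
  have k6 : (a : R) * d * e = -(d * a * e) := by rw [← neg_mul]; exact congrArg (fun t : unitary R => (t : R) * e) a2
  refine e0 (coe_cancel (g := d) (eq_zero_of_neg h.two ?_))
  rw [mul_assoc, mul_assoc, (h6 a5).eq, ← mul_assoc] at k6
  rcases k5 with k5 | k5 <;> rw [k5] at k6
  · rwa [← (h6 a5).eq] at k6
  · rw [neg_mul, ← (h6 a5).eq] at k6
    rw [k6, mul_neg, neg_neg]

theorem SN.sgn (h : SN ν J E K) (h0 : (1 : R) ≠ 0) (hz : z ∈ E) :
    ∃ s : E →* ℤˣ, ∀ d, s d = 1 → Commute ((d : unitary R) : R) z :=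
  (exists_sg (R := R) (H := E) (fun d => cj d) (fun a b => cj_mul (R := R) a b) (fun a => map_neg _) (v := z)
    (fun e => h0 (by rw [← Unitary.coe_star_mul_self z, eq_zero_of_neg h.two e, mul_zero]))
    fun d => (h.hc d d.2 z hz).imp cj_eq_iff.2 fun e => cj_eq_iff.2 (by rw [e, neg_mul])).imp
    fun s hs d hd => cj_eq_iff.1 ((hs d).1 hd)

theorem SN.caseB2 (h : SN ν J E K) (h0 : (1 : R) ≠ 0) (hB : ∀ u ∈ E, u * u = 1 ∨ u * u = -1) (hz : z ∈ E) (hy : y ∈ E)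
    (z1 : z * z = 1) (z2 : z * y = -(y * z)) : Nat.card E ≤ 32 := by
  classical
  obtain ⟨e, he, hze, h5⟩ := exists_pj h.two z1
  have z2' : (z : R) * y = -(y * z) := congrArg Subtype.val z2
  obtain ⟨s, hs⟩ := h.sgn h0 hz
  have h6 : ∀ d : s.ker, Commute ((E.subtype.comp s.ker.subtype d : unitary R) : R) e := fun d =>
    (h5 _ (hs d d.2).symm).symm
  have h1 : s.ker.index ≤ 2 := by
    rw [index_ker]
    exact (Nat.card_le_card_of_injective _ s.range.subtype_injective).trans (by simp)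
  have h2 := index_ker_le (ν.comp (cutH _ he h6))
  have h3 : Nat.card (ν.comp (cutH _ he h6)).ker ≤ 4 := by
    refine (Nat.card_le_card_of_injective (fun w => (⟨w.1.1.1, ?_⟩ : ({1, -1, z, -z} : Finset (unitary R)))) fun a b e =>
      Subtype.ext (Subtype.ext (Subtype.ext (Subtype.mk.inj e)))).trans ?_
    · obtain ⟨⟨⟨u, hu⟩, u1⟩, u2⟩ := w
      have h7 := h.cutN hz he hze hy z2' hu (h6 ⟨_, u1⟩) (hB u hu) u2
      have h8 : (u : R) * (1 - e) = 1 - e ∨ (u : R) * (1 - e) = -(1 - e) := by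
        have h9 : ∀ {a c : R}, a * y = c * y → a = c := fun h5 => (Unitary.toUnits y).isUnit.mul_right_cancel h5
        have h10 := anti_pj h.two hze z2'
        rcases h.hc u hu y hy with h11 | h11 <;> rcases h7 with h7 | h7
        · exact .inl (h9 (by rw [mul_assoc, ← h10, ← mul_assoc, h11, mul_assoc, h7]))
        · exact .inr (h9 (by rw [mul_assoc, neg_mul, ← h10, ← mul_assoc, h11, mul_assoc, h7, mul_neg]))
        · exact .inr (h9 (by rw [mul_assoc, neg_mul, ← h10, ← mul_assoc, h11, neg_mul, mul_assoc, h7]))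
        · exact .inl (h9 (by rw [mul_assoc, ← h10, ← mul_assoc, h11, neg_mul, mul_assoc, h7, mul_neg, neg_neg]))
      have h9 : (u : R) = u * e + u * (1 - e) := by noncomm_ring
      simp only [Finset.mem_insert, Finset.mem_singleton, Subtype.ext_iff, Unitary.coe_neg, OneMemClass.coe_one, hze]
      rcases h7 with h7 | h7 <;> rcases h8 with h8 | h8 <;> rw [h9, h7, h8]
      · exact .inl (by noncomm_ring)
      · exact .inr (.inr (.inr (by noncomm_ring)))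
      · exact .inr (.inr (.inl (by noncomm_ring)))
      · exact .inr (.inl (by noncomm_ring))
    · rw [Nat.card_eq_finsetCard]
      exact Finset.card_le_four
  rw [← card_mul_index s.ker, ← card_mul_index (ν.comp (cutH _ he h6)).ker]
  exact Nat.mul_le_mul (Nat.mul_le_mul h3 h2) h1

/-- **the structure of a defect group whose commutators are `± 1`** -/
theorem SN.core (h : SN ν J E K) (h0 : (1 : R) ≠ 0) (hx : x ∈ E) (hy : y ∈ E) (hxy : x * y = -(y * x)) :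
    Nat.card E ≤ 32 ∨ ((Z0 E).relIndex E ≤ 4 ∧ ∀ w ∈ Z0 E, ∀ w' ∈ Z0 E, w * w = 1 → w' * w' = 1 →
      w = 1 ∨ w = -1 ∨ w' = 1 ∨ w' = -1 ∨ w' = w ∨ w' = -w) := by
  have hxy' : (x : R) * y = -(y * x) := congrArg Subtype.val hxy
  by_cases h4 : (Z0 E).relIndex E ≤ 4
  · exact .inr ⟨h4, fun w hw w' hw' => h.invA hx hy hxy' hw hw'⟩
  left
  have hB : ∀ w ∈ Z0 E, w * w = 1 → w = 1 ∨ w = -1 := fun w hw h1 => by
    obtain ⟨e, he, e1⟩ := exists_gd h.two hw h1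
    by_contra h2
    refine h4 (h.idxA he (fun e0 => h2 (.inl (Subtype.ext ?_))) fun e0 => h2 (.inr (Subtype.ext ?_)))
    · rw [e1, e0, mul_zero, sub_zero, OneMemClass.coe_one]
    · rw [e1, ← sub_eq_zero.1 e0, Unitary.coe_neg, OneMemClass.coe_one]
      noncomm_ring
  obtain ⟨s, s1⟩ := h.sgn h0 hx
  obtain ⟨s', s2⟩ := h.sgn h0 hy
  obtain ⟨u, hu, u1, u2, u3⟩ : ∃ u ∈ E, Commute u x ∧ Commute u y ∧ u ∉ Z0 E := by
    by_contra h1
    refine h4 ((Nat.le_of_dvd (Nat.pos_of_ne_zero index_ne_zero_of_finite) (index_dvd_of_le (H := (s.prod s').ker)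
      fun d hd => ?_)).trans (index_ker_le _))
    by_contra h2
    exact h1 ⟨d, d.2, Subtype.ext (s1 d (congrArg Prod.fst hd)), Subtype.ext (s2 d (congrArg Prod.snd hd)), h2⟩
  have h1 : ∀ c ∈ Z0 E, c * c ≠ -1 := fun c hc h1 => u3 (h.caseB1 h0 hB hc h1 hx hy hxy hu u1 u2)
  have h2 : ∀ k : ℕ, ∀ w ∈ Z0 E, w ^ 2 ^ k = 1 → w * w = 1 := fun k => by
    induction k with
    | zero => intro w _ hw; rw [pow_zero, pow_one] at hw; rw [hw, mul_one]
    | succ k ih =>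
      intro w hw hk
      exact (hB _ (mul_mem hw hw) (ih _ (mul_mem hw hw) (by rw [← pow_two, ← pow_mul, ← pow_succ', hk]))).resolve_right
        (h1 w hw)
  have h3 : ∀ u ∈ E, u * u = 1 ∨ u * u = -1 := fun u hu => hB _ (h.sq_mem hu) (h2 K _ (h.sq_mem hu) (h.pg _ (mul_mem hu hu)))
  rcases h3 x hx with h5 | h5
  · exact h.caseB2 h0 h3 hx hy h5 hxy
  rcases h3 u hu with h6 | h6
  · obtain ⟨b, hb, b1⟩ := h.exists_anti hu u3
    exact h.caseB2 h0 h3 hu hb h6 b1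
  · exact h.caseB2 h0 h3 (mul_mem hx hu) hy (by rw [u1.mul_mul_mul_comm, h5, h6, neg_mul_neg, mul_one])
      (by rw [mul_assoc, u2.eq, ← mul_assoc, hxy, neg_mul, mul_assoc])

end Cfsg.Agent.KM.Two
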