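import Cfsg.Agent.KM.Two.Ab2

/-!
# KM, `l = 2` : the box `BoxA` (helper34)
-/

set_option autoImplicit false
set_option linter.unusedSectionVars false
set_option maxHeartbeats 200000

namespace Cfsg.Agent.KM.Two

open Subgroup Cfsg Cfsg.Agent.TO

variable {R : Type} [Ring R] [StarRing R] [Finite R] {J E : Subgroup (unitary R)} {ν : unitary R →* ℤˣ × ℤˣ} {K : ℕ}
  {η : unitary R → ℂ}

theorem SA.core (h : SA ν J E K η) :
    ∃ Q ≤ E, Q.relIndex E ≤ 4 ∧ ∀ t ∈ J, Ga ν E η t → ∀ r ∈ Q, t * r * t⁻¹ = r := by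
  have fin : ∀ t r : unitary R, (∀ e, At E e → cj t r * e = r * e) → t * r * t⁻¹ = r := fun t r h1 =>
    Subtype.ext (sub_eq_zero.1 (h.zero_of_atoms fun e he => by rw [sub_mul, ← cj_coe, h1 e he, sub_self]))
  by_cases hm : ∃ t ∈ J, Ga ν E η t ∧ ∃ e, At E e ∧ e ≠ cj t e
  swap
  · exact ⟨E, le_rfl, by simp, fun t ht hg r hr => fin t r fun e he =>
      h.fixed ht hg he (by_contra fun h1 => hm ⟨t, ht, hg, e, he, Ne.symm h1⟩) hr⟩
  obtain ⟨t, ht, hg, e, he, h1⟩ := hm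
  have he2 := he.cj hg.nz
  have he3 := he2.cj hg.nz
  have h2 : cj t e ≠ cj t (cj t e) := fun e => h1 (cj_inj t e)
  have h3 : e ≠ cj t (cj t e) := fun e => h1 (h.fix_of_sq ht hg he.bc ((cj_mul _ _ _).trans e.symm)).symm
  have h4 : ∀ s, Ga ν E η s → ∀ f, At E f → f ≠ cj s f → f = e ∨ f = cj t e ∨ f = cj t (cj t e) := fun s hs f hf h4 => by
    have h5 := h.meet hs hg hf he rfl rfl h4 h1
    have h6 := h.meet hs hg hf he2 rfl rfl h4 h2
    have h7 := h.meet hs (hg.mul hg) hf he rfl (cj_mul _ _ _) h4 h3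
    grind
  have sg : ∀ s, Ga ν E η s → ∀ f, At E f → f ≠ cj s f → ∃ σ : E →* ℤˣ, ∀ d : E, (σ d = 1 → (d : unitary R) * f = f) ∧
      (σ d = -1 → (d : unitary R) * f = -f) := fun s hs f hf h4 =>
    (exists_sg (R := R) (H := E) (fun d v => (d : unitary R) * v) (fun a b v => mul_assoc _ _ v) (fun a => mul_neg _)
      (fun e => hf.ne (eq_zero_of_neg h.two e)) fun d => h.sign_moved hs hf h4 d.2).imp fun σ hσ d =>
      ⟨(hσ d).1, fun e => (h.sign_moved hs hf h4 d.2).resolve_left fun e' => by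
        rw [(hσ d).2 e'] at e; exact absurd e (by decide)⟩
  obtain ⟨s1, t1⟩ := sg t hg e he h1
  obtain ⟨s2, t2⟩ := sg t hg _ he2 h2
  obtain ⟨s3, t3⟩ := sg t⁻¹ hg.inv _ he3 (by rw [cj_inv]; exact h2.symm)
  refine ⟨((s1 * s2).prod (s2 * s3)).ker.map E.subtype, map_subtype_le _, ?_, ?_⟩
  · rw [relIndex, subgroupOf, comap_map_eq_self_of_injective E.subtype_injective]
    exact index_ker_le _
  rintro s hs hs' _ ⟨d, hd, rfl⟩
  have h5 : s1 d * s2 d = 1 := congrArg Prod.fst hd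
  have h6 : s2 d * s3 d = 1 := congrArg Prod.snd hd
  have h7 : (∀ f, f = e ∨ f = cj t e ∨ f = cj t (cj t e) → ((d : unitary R) : R) * f = f) ∨
      ∀ f, f = e ∨ f = cj t e ∨ f = cj t (cj t e) → ((d : unitary R) : R) * f = -f := by
    rcases Int.units_eq_one_or (s2 d) with h7 | h7 <;> rw [h7] at h5 h6
    · left
      rintro _ (rfl | rfl | rfl)
      exacts [(t1 d).1 (by simpa using h5), (t2 d).1 h7, (t3 d).1 (by simpa using h6)]
    · right
      rintro _ (rfl | rfl | rfl)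
      exacts [(t1 d).2 (by simpa [neg_eq_iff_eq_neg] using h5), (t2 d).2 h7, (t3 d).2 (by simpa [neg_eq_iff_eq_neg] using h6)]
  refine fin s d fun f hf => ?_
  by_cases h8 : f = cj s⁻¹ f
  · exact h.fixed hs hs' hf (by nth_rewrite 1 [h8]; exact cj_inv' s f) d.2
  have h9 := h4 _ hs'.inv f hf h8
  have h10 := h4 _ hs' _ (hf.cj hs'.nz.inv) (by rw [cj_inv']; exact Ne.symm h8)
  nth_rewrite 1 [← cj_inv' s f]
  rw [← map_mul]
  rcases h7 with h7 | h7 <;> rw [h7 _ h9, h7 _ h10]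
  · exact cj_inv' s f
  · rw [map_neg, cj_inv']

theorem boxA : BoxA := by
  intro R _ _ _ Y _ _ f M b D θ h
  obtain ⟨K, hS⟩ := exists_st f (π := MonoidHom.id Y) Function.surjective_id
    (fun y hy => .inl (by rw [show y = 1 from hy, map_one]; rfl)) h
  rw [comap_id] at hS
  have h1 : ∀ y, (f.j y : R) ∈ Cm (D.map f.j) ↔ y ∈ Ce D := fun y => mem_Cm.trans
    ⟨fun hy d hd => f.inj (Subtype.ext (by rw [map_mul, map_mul]; exact hy _ (mem_map_of_mem _ hd))), fun hy => by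
      rintro _ ⟨d, hd, rfl⟩
      have h1 := congrArg (fun x => (f.j x : R)) (hy d hd)
      simp only [map_mul] at h1
      exact h1⟩
  have h2 : ∀ y, y ∈ normalizer (D : Set Y) ↔ ∀ d ∈ D.map f.j, f.j y * d * (f.j y)⁻¹ ∈ D.map f.j := fun y =>
    ⟨fun hy => by
      rintro _ ⟨d, hd, rfl⟩
      rw [← map_inv, ← map_mul, ← map_mul]
      exact mem_map_of_mem _ ((mem_normalizer_iff.1 hy d).1 hd), fun hy => mem_normalizer_fintype fun d hd => by
      have h2 := hy _ (mem_map_of_mem _ hd)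
      rwa [← map_inv, ← map_mul, ← map_mul, mem_map_iff_mem f.inj] at h2⟩
  have h3 : ∀ y ∈ normalizer (D : Set Y), Nz (D.map f.j) (f.j y) := fun y hy _ => cj_mem_Bc ((h2 y).1 hy)
  obtain ⟨η, e1, e2, e3, e4⟩ := exists_eta h (N := (NN f.ν (D.map f.j)).comap f.j) (fun y hy => (h1 y).1 hy.1)
    (fun y hy n hn => by
      rw [mem_comap, map_mul, map_mul, map_inv]
      exact (h3 y hy).nn hn) fun u hu ho => ⟨(h1 u).2 hu, fun e he hp => by
      obtain ⟨m, hm⟩ : ∃ m, orderOf u = 2 * m + 1 := ⟨orderOf u / 2, by omega⟩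
      have h4 : f.ν (cut (f.j u) e) ^ orderOf u = 1 := by
        rw [← map_pow, ← cut_pow hp (he _ ((h1 u).2 hu)), ← map_pow, pow_orderOf_eq_one, map_one, cut_one hp, map_one]
      rwa [hm, pow_succ, pow_mul, (by decide : ∀ v : ℤˣ × ℤˣ, v ^ 2 = 1), one_pow, one_mul] at h4⟩
  have e5 : ∀ y, Function.extend f.j η 0 (f.j y) = η y := f.inj.extend_apply η 0
  have h4 : ∀ n ∈ NN f.ν (D.map f.j), ∃ y, f.j y = n := fun n hn =>
    f.ker n (cut_top n ▸ hn.2 1 (one_mem _) (IsStarProjection.one R))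
  have hA : SA f.ν f.j.range (D.map f.j) K (Function.extend f.j η 0) := by
    refine ⟨hS, ?_, by rwa [← map_one f.j, e5], fun a ha c hc h5 => ?_, ?_⟩
    · rintro _ ⟨d, hd, rfl⟩
      exact (h1 d).2 (h.ab hd)
    · obtain ⟨a, rfl⟩ := h4 a ha
      obtain ⟨c, rfl⟩ := h4 c hc
      rw [← map_mul, ← map_one f.j, e5, e5, e5, e5]
      refine e2 a ha c hc fun y hy => ?_
      obtain ⟨z, hz, e⟩ := h5 _ hy
      obtain ⟨z, rfl⟩ := h4 z hz
      exact ⟨z, hz, f.inj (by simpa only [map_mul, map_inv] using e)⟩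
    · rintro _ ⟨y, rfl⟩ h5 h6
      obtain ⟨n, hn, h7⟩ := exists_pow_Ce h (e4 y ((h2 y).2 h5) fun n hn => by
        rw [← e5, ← e5 n, map_mul, map_mul, map_inv]
        exact h6 _ hn)
      exact ⟨n, hn, by rw [← map_pow]; exact (h1 _).2 h7⟩
  obtain ⟨Q, q1, q2, q3⟩ := hA.core
  have q4 : Q.comap f.j ≤ D := fun y hy => (mem_map_iff_mem f.inj).1 (q1 hy)
  refine ⟨Q.comap f.j, q4, by rwa [relIndex_comap], fun t ht r hr => ?_⟩
  obtain ⟨c, hc, h5⟩ := e3 t ht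
  have h6 := q3 (f.j (t * c)) ⟨_, rfl⟩ ⟨h3 _ (mul_mem (In_le_norm ht) (centralizer_le_normalizer _ hc)), fun n hn => by
    obtain ⟨n, rfl⟩ := h4 n hn
    rw [← map_inv, ← map_mul, ← map_mul, e5, e5]
    exact h5 n hn⟩ _ hr
  rw [← map_inv, ← map_mul, ← map_mul] at h6
  calc t * r * t⁻¹ = t * (r * c) * (t * c)⁻¹ := by group
    _ = r := by rw [hc r (q4 hr), ← mul_assoc, f.inj h6]

end Cfsg.Agent.KM.Two
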