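import Mathlib

/-!
# Abelian `2`-groups of isometries over the field with three elements (helper36)

In dimension `n ≤ 7` the order is at most `2 ^ n`, and at most `2 ^ (n - 2)` if the group centralizes an isometry of odd
order which is not the identity.
-/

set_option autoImplicit false
set_option linter.unusedSectionVars false

namespace Cfsg.Agent.KM.Two.A3

open Module

theorem dvd_ncard {L Ω : Type*} [Group L] [MulAction L Ω] [Finite Ω] {d : ℕ} (S : Set Ω)
    (hinv : ∀ (h : L), ∀ a ∈ S, h • a ∈ S) (hd : ∀ a ∈ S, (MulAction.orbit L a).ncard = d) : d ∣ S.ncard := by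
  generalize hn : S.ncard = n
  induction n using Nat.strong_induction_on generalizing S with
  | _ n ih =>
  rcases S.eq_empty_or_nonempty with rfl | ⟨a, ha⟩
  · rw [← hn, Set.ncard_empty]
    exact dvd_zero d
  have h1 : MulAction.orbit L a ⊆ S := by
    rintro _ ⟨h, rfl⟩
    exact hinv h a ha
  have h2 := Set.ncard_sdiff_add_ncard_of_subset h1
  have h3 : 0 < (MulAction.orbit L a).ncard := (Set.ncard_pos).2 ⟨a, MulAction.mem_orbit_self a⟩
  have h4 := ih _ (by omega) (S \ MulAction.orbit L a) (fun h b hb => ⟨hinv h b hb.1, fun h5 => hb.2 (by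
      have h6 := MulAction.mem_orbit_of_mem_orbit h⁻¹ h5
      rwa [inv_smul_smul] at h6)⟩) (fun b hb => hd b hb.1) rfl
  rw [← hn, ← h2, hd a ha]
  exact dvd_add h4 dvd_rfl

theorem exists_last {A : Type*} [Group A] (K : Subgroup A) (k : ℕ) : ∀ x : A, x ^ 2 ^ k ∈ K → x ∉ K →
    ∃ j, x ^ 2 ^ j ∉ K ∧ x ^ 2 ^ j * x ^ 2 ^ j ∈ K := by
  induction k with
  | zero => exact fun x h1 h2 => absurd (by simpa using h1) h2
  | succ k ih =>
    intro x h1 h2
    by_cases h : x ^ 2 ^ k ∈ K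
    · exact ih x h h2
    · exact ⟨k, h, by rwa [← pow_add, ← mul_two, ← pow_succ]⟩

theorem le_of_dvd {s e k n : ℕ} (h : 2 ^ s ∣ n) (hn : n = e * (2 * k + 1)) (he : 0 < e) : 2 ^ s ≤ e :=
  Nat.le_of_dvd he (Nat.Coprime.dvd_of_dvd_mul_right (Nat.Coprime.pow_left _ (by simp)) (hn ▸ h))

variable {F V A : Type*} [Field F] [AddCommGroup V] [Module F V] [Finite V] [Group A] [Finite A]

/-- the setting -/
structure St (B : LinearMap.BilinForm F V) (ρ : A →* End F V) (y : End F V) : Prop where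
  h3 : Nat.card F = 3
  sy : ∀ u v, B u v = B v u
  pg : IsPGroup 2 A
  cm : ∀ a b : A, a * b = b * a
  iso : ∀ a u v, B (ρ a u) (ρ a v) = B u v
  yi : ∀ u v, B (y u) (y v) = B u v
  yo : ∃ m, Odd m ∧ y ^ m = 1
  yc : ∀ a, Commute (ρ a) y

/-- the kernel on `W` -/
def Kr (ρ : A →* End F V) (W : Submodule F V) : Subgroup A where
  carrier := {a | ∀ w ∈ W, ρ a w = w}
  one_mem' w _ := by rw [map_one]; rfl
  mul_mem' {a b} ha hb w hw := by rw [map_mul, End.mul_apply, hb w hw, ha w hw]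
  inv_mem' {a} ha w hw := by rw [← ha w hw, ← End.mul_apply, ← map_mul, inv_mul_cancel, map_one, ha w hw]; rfl

/-- invariant non-degenerate subspaces -/
structure Ok (B : LinearMap.BilinForm F V) (ρ : A →* End F V) (y : End F V) (W : Submodule F V) : Prop where
  nd : ∀ x ∈ W, (∀ w ∈ W, B x w = 0) → x = 0
  a : ∀ a, ∀ w ∈ W, ρ a w ∈ W
  y : ∀ w ∈ W, y w ∈ W

/-- eigenspaces in `W` -/
abbrev Eg (T : End F V) (W : Submodule F V) (ε : F) : Submodule F V := W ⊓ T.eigenspace ε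

theorem mem_Eg {T : End F V} {W : Submodule F V} {ε : F} {x : V} : x ∈ Eg T W ε ↔ x ∈ W ∧ T x = ε • x := by
  rw [Submodule.mem_inf, End.mem_eigenspace_iff]

theorem Eg_inv {T S : End F V} {W : Submodule F V} {ε : F} (h : Commute T S) (hS : ∀ w ∈ W, S w ∈ W) :
    ∀ w ∈ Eg T W ε, S w ∈ Eg T W ε := fun w hw => mem_Eg.2 ⟨hS w hw.1, by
  rw [← End.mul_apply, h.eq, End.mul_apply, (mem_Eg.1 hw).2, map_smul]⟩

variable {B : LinearMap.BilinForm F V} {ρ : A →* End F V} {y : End F V} {W : Submodule F V} (H : St B ρ y)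
include H

namespace St

theorem three : (3 : F) = 0 := by
  have : Finite F := Nat.finite_of_card_ne_zero (by rw [H.h3]; norm_num)
  have := Fintype.ofFinite F
  simpa [← Nat.card_eq_fintype_card, H.h3] using FiniteField.cast_card_eq_zero F

theorem cases (x : F) : x = 0 ∨ x = 1 ∨ x = -1 := by
  have : Finite F := Nat.finite_of_card_ne_zero (by rw [H.h3]; norm_num)
  have := Fintype.ofFinite F
  have h := FiniteField.pow_card x
  rw [← Nat.card_eq_fintype_card, H.h3] at h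
  rw [← mul_self_eq_one_iff, ← sub_eq_zero (a := x * x), ← mul_eq_zero]
  linear_combination h

theorem v3 (v : V) : -(v + v) = v := by
  rw [neg_eq_iff_add_eq_zero, ← one_smul F v, ← add_smul, ← add_smul, show (1 : F) + 1 + 1 = 3 by norm_num, H.three,
    zero_smul]

theorem neg_ne {v : V} (h : -v = v) : v = 0 := by rw [← H.v3 v, neg_add, h, ← neg_add_cancel v, h]

theorem fix {u : V} {j : ℕ} (h : (y ^ 2 ^ j) u = u) : y u = u := by
  obtain ⟨m, hm, h1⟩ := H.yo
  have h2 : Function.IsPeriodicPt y m u := by rw [Function.IsPeriodicPt, Function.IsFixedPt, ← End.pow_apply, h1]; rfl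
  have h3 : Function.IsPeriodicPt y (2 ^ j) u := by rwa [Function.IsPeriodicPt, Function.IsFixedPt, ← End.pow_apply]
  have h4 := h3.gcd h2
  rwa [Nat.Coprime.pow_left j (Nat.coprime_two_left.2 hm)] at h4

theorem inj {u : V} (h : y u = 0) : u = 0 := by
  obtain ⟨_, ⟨k, rfl⟩, h1⟩ := H.yo
  rw [← End.one_apply (R := F) u, ← h1, pow_succ, End.mul_apply, h, map_zero]

theorem dec {T : End F V} (h1 : ∀ w ∈ W, T w ∈ W) (h2 : ∀ w ∈ W, T (T w) = w) {w : V} (hw : w ∈ W) :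
    ∃ u ∈ Eg T W 1, ∃ v ∈ Eg T W (-1), u + v = w :=
  ⟨-(w + T w), mem_Eg.2 ⟨neg_mem (add_mem hw (h1 w hw)), by rw [map_neg, map_add, h2 w hw, one_smul, add_comm]⟩,
    -(w - T w), mem_Eg.2 ⟨neg_mem (sub_mem hw (h1 w hw)), by rw [map_neg, map_sub, h2 w hw]; simp⟩,
    (by abel : _ = -(w + w)).trans (H.v3 w)⟩

theorem rk {T : End F V} (h1 : ∀ w ∈ W, T w ∈ W) (h2 : ∀ w ∈ W, T (T w) = w) :
    finrank F (Eg T W 1) + finrank F (Eg T W (-1)) = finrank F W := by
  have h3 : Eg T W 1 ⊔ Eg T W (-1) = W :=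
    le_antisymm (sup_le inf_le_left inf_le_left) fun w hw => Submodule.mem_sup.2 (H.dec h1 h2 hw)
  have h4 : Eg T W 1 ⊓ Eg T W (-1) = ⊥ := eq_bot_iff.2 fun w hw => H.neg_ne (by
    have h5 := (mem_Eg.1 hw.2).2
    rw [(mem_Eg.1 hw.1).2, one_smul, neg_one_smul] at h5
    exact h5.symm)
  rw [← Submodule.finrank_sup_add_finrank_inf_eq, h3, h4, finrank_bot, add_zero]

/-- dimension at most two -/
theorem small (h : Ok B ρ y W) (h2 : finrank F W ≤ 2) : ∀ v ∈ W, y v = v := by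
  intro v hv
  by_contra hn
  have h0 : v ≠ 0 := fun e => hn (by rw [e, map_zero])
  have h1 : ∀ c : F, c • v ≠ y v := fun c hc => by
    rcases H.cases c with rfl | rfl | rfl
    · exact h0 (H.inj (by rw [← hc, zero_smul]))
    · exact hn (by rw [← hc, one_smul])
    · exact hn (H.fix (j := 1) (by rw [pow_one, sq, End.mul_apply, ← hc, map_smul, ← hc]; simp))
  have h3 : Submodule.span F {v, y v} = W := by
    refine Submodule.eq_of_le_of_finrank_le (Submodule.span_le.2 (Set.pair_subset hv (h.y v hv))) (h2.trans_eq ?_)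
    have := finrank_span_eq_card ((LinearIndependent.pair_iff' h0).2 h1)
    rw [Matrix.range_cons_cons_empty] at this
    exact this.symm
  obtain ⟨α, β, h4⟩ := Submodule.mem_span_pair.1 (h3.ge (h.y _ (h.y v hv)))
  have hα : α * α = 1 := mul_self_eq_one_iff.2 ((H.cases α).resolve_left fun e => h1 β (eq_of_sub_eq_zero (H.inj (by
    rw [map_sub, map_smul, ← h4, e, zero_smul, zero_add, sub_self]))))
  have hβ : β * β = 1 := mul_self_eq_one_iff.2 ((H.cases β).resolve_left fun e => hn (H.fix (j := 2) (by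
    rw [e, zero_smul, add_zero] at h4
    change y (y (y (y v))) = v
    rw [← h4, map_smul, map_smul, ← h4, smul_smul, hα, one_smul])))
  have h5 := H.yi v v
  have h6 := H.yi (y v) (y v)
  have h7 := H.sy (y v) v
  rw [← h4] at h6
  simp only [map_add, map_smul, LinearMap.add_apply, LinearMap.smul_apply, smul_eq_mul, h5, h7] at h6
  have h8 : B v v = α * β * B v (y v) := by
    linear_combination h6 - B v v * hα - B v v * hβ - α * β * B v (y v) * H.three
  refine h1 (α * β) (eq_of_sub_eq_zero (h.nd _ (sub_mem (W.smul_mem _ hv) (h.y v hv)) fun w hw => ?_))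
  obtain ⟨s, t, rfl⟩ := Submodule.mem_span_pair.1 (h3.ge hw)
  simp only [map_add, map_sub, map_smul, LinearMap.sub_apply, LinearMap.smul_apply, smul_eq_mul, h5, h7, h8]
  linear_combination s * B v (y v) * (β * β) * hα + s * B v (y v) * hβ

/-- the case of a free action -/
theorem base (h : Ok B ρ y W) (h7 : finrank F W ≤ 7) (h0 : W ≠ ⊥)
    (hb : ∀ a, a * a ∈ Kr ρ W → a ∈ Kr ρ W ∨ ∀ w ∈ W, ρ a w = -w) :
    (Kr ρ W).index ≤ 2 ^ finrank F W ∧ ((∀ w ∈ W, y w = w) ∨ 4 * (Kr ρ W).index ≤ 2 ^ finrank F W) := by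
  classical
  have : Fact (Nat.Prime 2) := ⟨Nat.prime_two⟩
  let _ : MulAction A V := MulAction.compHom V ρ
  have hl : ∀ x ∉ Kr ρ W, ∃ j, x ^ 2 ^ j ∉ Kr ρ W ∧ ∀ w ∈ W, ρ (x ^ 2 ^ j) w = -w := fun x hx => by
    obtain ⟨k, hk⟩ := H.pg x
    obtain ⟨j, h1, h2⟩ := exists_last _ k x (hk ▸ one_mem _) hx
    exact ⟨j, h1, (hb _ h2).resolve_left h1⟩
  have ho : ∀ w ∈ W, w ≠ 0 → (MulAction.orbit A w).ncard = (Kr ρ W).index := fun w hw hw0 => by
    rw [← MulAction.index_stabilizer]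
    congr 1
    refine le_antisymm (fun a ha => by_contra fun hn => ?_) fun a ha => ha w hw
    obtain ⟨j, -, h2⟩ := hl a hn
    exact hw0 (H.neg_ne ((h2 w hw).symm.trans (pow_mem ha _)))
  have hc : ∀ U : Submodule F V, ((U : Set V) \ {0}).ncard = 3 ^ finrank F U - 1 := fun U => by
    rw [Set.ncard_sdiff_singleton_of_mem U.zero_mem, ← Nat.card_coe_set_eq, ← H.h3, ← natCard_eq_pow_finrank]
    rfl
  have hi : ∀ U : Submodule F V, (∀ a, ∀ w ∈ U, ρ a w ∈ U) → ∀ a : A, ∀ w ∈ (U : Set V) \ {0}, a • w ∈ (U : Set V) \ {0} :=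
    fun U hU a w hw => ⟨hU a w hw.1, fun e => hw.2 (by
      have h1 : ρ a w = 0 := e
      rw [← End.one_apply (R := F) w, ← map_one ρ, ← inv_mul_cancel a, map_mul, End.mul_apply, h1, map_zero]
      rfl)⟩
  have hd : ∀ U ≤ W, (∀ a, ∀ w ∈ U, ρ a w ∈ U) → (Kr ρ W).index ∣ 3 ^ finrank F U - 1 := fun U h1 hU =>
    hc U ▸ dvd_ncard _ (hi U hU) fun w hw => ho w (h1 hw.1) hw.2
  obtain ⟨s, hs⟩ := H.pg.index (Kr ρ W)
  have key : (Kr ρ W).index ≤ 4 ∨ 4 ≤ finrank F W ∧ (finrank F W = 4 → ∀ w ∈ W, y w = w) := by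
    by_cases h4 : ∀ a, a ^ 4 ∈ Kr ρ W
    · left
      obtain ⟨w, hw, hw0⟩ := W.exists_mem_ne_zero_of_ne_bot h0
      obtain ⟨x, hx⟩ : ∃ x : V, ∀ a, a * a ∉ Kr ρ W → ρ a w = x ∨ ρ a w = -x := by
        by_cases h5 : ∃ c, c * c ∉ Kr ρ W
        · obtain ⟨c, hc⟩ := h5
          have h6 : ∀ a, a * a ∉ Kr ρ W → ∀ w ∈ W, ρ a (ρ a w) = -w := fun a ha w hw => by
            rw [← End.mul_apply, ← map_mul]
            exact (hb _ (by simpa [pow_succ, mul_assoc] using h4 a)).resolve_left ha w hw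
          refine ⟨ρ c w, fun a ha => ?_⟩
          have h8 := hb (a * c) fun w hw => by
            rw [mul_assoc, ← mul_assoc c, H.cm c a]
            simp only [map_mul, End.mul_apply]
            rw [h6 a ha _ (h.a _ _ (h.a _ _ hw)), h6 c hc w hw, neg_neg]
          have h9 : ρ (a * c) (ρ c w) = -ρ a w := by rw [map_mul, End.mul_apply, h6 c hc w hw, map_neg]
          rcases h8 with h8 | h8
          · exact .inr (by rw [← h8 _ (h.a c w hw), h9, neg_neg])
          · exact .inl (neg_injective (h9.symm.trans (h8 _ (h.a c w hw))))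
        · exact ⟨0, fun a ha => absurd ⟨a, ha⟩ h5⟩
      rw [← ho w hw hw0]
      refine (Set.ncard_le_ncard (t := (({w, -w, x, -x} : Finset V) : Set V)) ?_).trans
        ((Set.ncard_coe_finset _).trans_le Finset.card_le_four)
      rintro _ ⟨a, rfl⟩
      change ρ a w ∈ _
      by_cases h5 : a * a ∈ Kr ρ W
      · rcases hb a h5 with h6 | h6 <;> simp [h6 w hw]
      · rcases hx a h5 with h6 | h6 <;> simp [h6]
    right
    obtain ⟨a, ha⟩ := not_forall.1 h4
    obtain ⟨j, h1, h2⟩ := hl _ ha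
    rw [← pow_mul, mul_comm, pow_mul] at h1 h2
    generalize a ^ 2 ^ j = b at h1 h2
    have : (Kr ρ W).Normal := ⟨fun n hn g => by rwa [H.cm g n, mul_inv_cancel_right]⟩
    have h8 : 8 ∣ (Kr ρ W).index := by
      rw [hs]
      refine pow_dvd_pow 2 (not_lt.1 fun h5 => h1 ?_ : 3 ≤ s)
      obtain ⟨c, hc⟩ : (Kr ρ W).index ∣ 4 := hs ▸ pow_dvd_pow 2 (by omega : s ≤ 2)
      rw [hc, pow_mul]
      exact pow_mem ((Kr ρ W).pow_index_mem b) c
    have m1 : ∀ c w, ρ c (ρ c⁻¹ w) = w := fun c w => by rw [← End.mul_apply, ← map_mul, mul_inv_cancel, map_one]; rfl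
    have m2 : ∀ c w, ρ c⁻¹ (ρ c w) = w := fun c w => by rw [← End.mul_apply, ← map_mul, inv_mul_cancel, map_one]; rfl
    set T := ρ b - ρ b⁻¹ with hT
    have t1 : ∀ w ∈ W, T w ∈ W := fun w hw => sub_mem (h.a _ w hw) (h.a _ w hw)
    have t2 : ∀ w ∈ W, T (T w) = w := fun w hw => by
      have h5 := h2 _ (h.a b⁻¹ _ (h.a b⁻¹ w hw))
      simp only [pow_succ, pow_zero, one_mul, map_mul, End.mul_apply, m1] at h5
      simp only [hT, LinearMap.sub_apply, map_sub, m1, m2, h5]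
      exact (by abel : _ = -(w + w)).trans (H.v3 w)
    have t3 : ∀ ε : F, ε * ε = 1 → ∀ u ∈ Eg T W ε, ∀ v ∈ Eg T W ε, B u v = 0 := fun ε hε u hu v hv => by
      have h5 : B (T u) v = -B u (T v) := by
        simp only [hT, LinearMap.sub_apply, map_sub]
        rw [← H.iso b⁻¹ (ρ b u), m2, ← H.iso b (ρ b⁻¹ u), m1, neg_sub]
      rw [(mem_Eg.1 hu).2, (mem_Eg.1 hv).2, map_smul, map_smul, LinearMap.smul_apply, smul_eq_mul] at h5
      linear_combination -ε * h5 + ε * ε * B u v * H.three - B u v * hε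
    have t4 : ∀ (ε : F) c, ∀ w ∈ Eg T W ε, ρ c w ∈ Eg T W ε := fun ε c =>
      Eg_inv (((show Commute b c from H.cm b c).map ρ).sub_left ((show Commute b⁻¹ c from H.cm _ c).map ρ)) (h.a c)
    have t5 : ∀ ε : F, Eg T W ε ≠ ⊥ → 2 ≤ finrank F (Eg T W ε) := fun ε hε => by
      have h5 := h8.trans (hd _ inf_le_left (t4 ε))
      have h6 : finrank F (Eg T W ε) ≠ 0 := fun e => hε (Submodule.finrank_eq_zero.1 e)
      by_contra h9
      rw [show finrank F (Eg T W ε) = 1 by omega] at h5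
      norm_num at h5
    have t6 : ∀ ε : F, finrank F (Eg T W ε) = 2 → ∀ u ∈ Eg T W ε, y u = u := fun ε hε u hu => by
      by_cases hu0 : u = 0
      · rw [hu0, map_zero]
      have h5 : MulAction.orbit A u = (Eg T W ε : Set V) \ {0} := Set.eq_of_subset_of_ncard_le (by
        rintro _ ⟨c, rfl⟩
        exact hi _ (t4 ε) c u ⟨hu, hu0⟩) (by
          rw [hc, hε, ho u hu.1 hu0]
          exact Nat.le_of_dvd (hs ▸ Nat.two_pow_pos s) h8)
      obtain ⟨c, h6⟩ := h5.ge ⟨Eg_inv ((H.yc b).sub_left (H.yc _)) h.y u hu, fun e => hu0 (H.inj e)⟩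
      obtain ⟨k, hk⟩ := H.pg c
      have h9 : ∀ n : ℕ, (y ^ n) u = ρ (c ^ n) u := fun n => by
        induction n with
        | zero => simp
        | succ n ih =>
          rw [pow_succ', End.mul_apply, ih, ← End.mul_apply, ← (H.yc _).eq, End.mul_apply, pow_succ, map_mul,
            End.mul_apply]
          exact congrArg _ h6.symm
      exact H.fix (j := k) (by rw [h9, hk, map_one]; rfl)
    have t7 := H.rk t1 t2
    have t8 := t5 1 fun e => h0 (eq_bot_iff.2 fun w hw => h.nd w hw fun v hv => by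
      obtain ⟨a, h5, b, h6, rfl⟩ := H.dec t1 t2 hw
      obtain ⟨c, h5', d, h6', rfl⟩ := H.dec t1 t2 hv
      rw [e, Submodule.mem_bot] at h5 h5'
      rw [h5, h5', zero_add, zero_add]
      exact t3 _ (by simp) _ h6 _ h6')
    have t9 := t5 (-1) fun e => h0 (eq_bot_iff.2 fun w hw => h.nd w hw fun v hv => by
      obtain ⟨a, h5, b, h6, rfl⟩ := H.dec t1 t2 hw
      obtain ⟨c, h5', d, h6', rfl⟩ := H.dec t1 t2 hv
      rw [e, Submodule.mem_bot] at h6 h6'
      rw [h6, h6', add_zero, add_zero]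
      exact t3 _ (by simp) _ h5 _ h5')
    refine ⟨by omega, fun h5 w hw => ?_⟩
    obtain ⟨a, h6, b, h9, rfl⟩ := H.dec t1 t2 hw
    rw [map_add, t6 _ (by omega) a h6, t6 _ (by omega) b h9]
  have h1 := hd W le_rfl h.a
  have h2 := H.small h
  have h3 : finrank F W ≠ 0 := fun e => h0 (Submodule.finrank_eq_zero.1 e)
  rw [hs] at h1 key ⊢
  generalize finrank F W = n at *
  generalize (∀ w ∈ W, y w = w) = P at *
  have h4 : 1 ≤ n := by omega
  interval_cases n
  · exact ⟨le_of_dvd (k := 0) h1 rfl two_pos, .inl (h2 (by omega))⟩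
  · exact ⟨by omega, .inl (h2 le_rfl)⟩
  · have := le_of_dvd (e := 2) (k := 6) h1 rfl two_pos
    exact ⟨by omega, .inr (by omega)⟩
  · exact ⟨le_of_dvd (e := 16) (k := 2) h1 rfl (by omega), key.symm.imp (fun h => h.2 rfl) fun h => by omega⟩
  · have := le_of_dvd (e := 2) (k := 60) h1 rfl two_pos
    exact ⟨by omega, .inr (by omega)⟩
  · have := le_of_dvd (e := 8) (k := 45) h1 rfl (by omega)
    exact ⟨by omega, .inr (by omega)⟩
  · have := le_of_dvd (e := 2) (k := 546) h1 rfl two_pos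
    exact ⟨by omega, .inr (by omega)⟩

/-- **the bound** -/
theorem bound (n : ℕ) : ∀ W : Submodule F V, finrank F W = n → n ≤ 7 → Ok B ρ y W →
    (Kr ρ W).index ≤ 2 ^ n ∧ ((∀ w ∈ W, y w = w) ∨ 4 * (Kr ρ W).index ≤ 2 ^ n) := by
  induction n using Nat.strong_induction_on with
  | _ n ih =>
  rintro W rfl h7 h
  by_cases h0 : W = ⊥
  · subst h0
    rw [show Kr ρ (⊥ : Submodule F V) = ⊤ from eq_top_iff.2 fun a _ w hw => by rw [hw, map_zero], Subgroup.index_top]
    exact ⟨Nat.one_le_two_pow, .inl fun w hw => by rw [hw, map_zero]⟩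
  by_cases hb : ∀ a, a * a ∈ Kr ρ W → a ∈ Kr ρ W ∨ ∀ w ∈ W, ρ a w = -w
  · exact H.base h h7 h0 hb
  obtain ⟨a, h1, h2, h3⟩ : ∃ a, a * a ∈ Kr ρ W ∧ a ∉ Kr ρ W ∧ ¬ ∀ w ∈ W, ρ a w = -w := by simpa using hb
  have t2 : ∀ w ∈ W, ρ a (ρ a w) = w := fun w hw => by rw [← End.mul_apply, ← map_mul, h1 w hw]
  have t3 : ∀ u ∈ Eg (ρ a) W 1, ∀ v ∈ Eg (ρ a) W (-1), B u v = 0 := fun u hu v hv => by
    have h4 := H.iso a u v
    rw [(mem_Eg.1 hu).2, (mem_Eg.1 hv).2, one_smul, neg_one_smul, map_neg] at h4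
    linear_combination h4 + B u v * H.three
  have t4 : ∀ ε : F, (∀ x ∈ Eg (ρ a) W ε, (∀ w ∈ Eg (ρ a) W ε, B x w = 0) → ∀ w ∈ W, B x w = 0) →
      Ok B ρ y (Eg (ρ a) W ε) := fun ε hε => ⟨fun x hx h4 => h.nd x hx.1 (hε x hx h4),
    fun c => Eg_inv ((show Commute a c from H.cm a c).map ρ) (h.a c), Eg_inv (H.yc a) h.y⟩
  have t5 : ∀ ε : F, (¬ ∀ w ∈ W, ρ a w = ε • w) → finrank F (Eg (ρ a) W ε) < finrank F W := fun ε hε =>
    Submodule.finrank_lt_finrank_of_lt (lt_of_le_of_ne inf_le_left fun e => hε fun w hw => (mem_Eg.1 (e.ge hw)).2)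
  have a1 := t5 1 fun e => h2 fun w hw => (e w hw).trans (one_smul F w)
  have a2 := t5 (-1) (by simpa using h3)
  obtain ⟨b1, c1⟩ := ih _ a1 _ rfl (by omega) (t4 1 fun x hx h4 w hw => by
    obtain ⟨u, hu, v, hv, rfl⟩ := H.dec (h.a a) t2 hw
    rw [map_add, h4 u hu, t3 x hx v hv, add_zero])
  obtain ⟨b2, c2⟩ := ih _ a2 _ rfl (by omega) (t4 (-1) fun x hx h4 w hw => by
    obtain ⟨u, hu, v, hv, rfl⟩ := H.dec (h.a a) t2 hw
    rw [map_add, h4 v hv, H.sy, t3 u hu x hx, add_zero])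
  have t6 : (Kr ρ W).index ≤ (Kr ρ (Eg (ρ a) W 1)).index * (Kr ρ (Eg (ρ a) W (-1))).index := by
    refine (Subgroup.index_antitone fun c hc w hw => ?_).trans Subgroup.index_inf_le
    obtain ⟨u, hu, v, hv, rfl⟩ := H.dec (h.a a) t2 hw
    rw [map_add, hc.1 u hu, hc.2 v hv]
  rw [← H.rk (h.a a) t2, pow_add]
  refine ⟨t6.trans (Nat.mul_le_mul b1 b2), ?_⟩
  rcases c1 with c1 | c1
  · refine c2.imp (fun c2 w hw => ?_) fun c2 => (Nat.mul_le_mul_left 4 t6).trans ?_
    · obtain ⟨u, hu, v, hv, rfl⟩ := H.dec (h.a a) t2 hw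
      rw [map_add, c1 u hu, c2 v hv]
    · rw [mul_left_comm]
      exact Nat.mul_le_mul b1 c2
  · refine .inr ((Nat.mul_le_mul_left 4 t6).trans ?_)
    rw [← mul_assoc]
    exact Nat.mul_le_mul c1 b2

/-- **faithful actions** -/
theorem card_le (hρ : ∀ a, ρ a = 1 → a = 1) (hB : ∀ x, (∀ w, B x w = 0) → x = 0) (h7 : finrank F V ≤ 7) :
    Nat.card A ≤ 2 ^ finrank F V ∧ (y = 1 ∨ 4 * Nat.card A ≤ 2 ^ finrank F V) := by
  have h := H.bound _ ⊤ (finrank_top F V) h7 ⟨fun x _ hx => hB x fun w => hx w trivial, fun _ _ _ => trivial,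
    fun _ _ => trivial⟩
  rw [show Kr ρ (⊤ : Submodule F V) = ⊥ from eq_bot_iff.2 fun a ha => hρ a (LinearMap.ext fun w => ha w trivial),
    Subgroup.index_bot] at h
  exact ⟨h.1, h.2.imp_left fun h => LinearMap.ext fun w => h w trivial⟩

end St

end Cfsg.Agent.KM.Two.A3
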