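import Cfsg.Agent.KM.Two.Fin
import Cfsg.Agent.KM.Two.Ab3
import Cfsg.Agent.KM.Sp.Loc
import Cfsg.Agent.S0292

/-!
# S4999, `l = 2` : the covers of `Ω₇(3)` (helper36)
-/

set_option autoImplicit false
set_option linter.unusedSectionVars false

namespace Cfsg.Agent.KM.Two

open Cfsg Matrix Cfsg.Agent.KM.Sp Cfsg.Agent.LieClassical.OmegaReindex

variable {ι : Type} [Fintype ι] [DecidableEq ι] {F : Type} [Field F] [Fintype F]

/-- abelian `2`-subgroups of a group of isometries of determinant one in odd dimension at most seven -/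
theorem card_le_so (hF : Fintype.card F = 3) (Q : QuadraticForm F (ι → F))
    (hQ : (QuadraticMap.polarBilin Q).Nondegenerate) (ho : Odd (Fintype.card ι)) (h7 : Fintype.card ι ≤ 7)
    {T : Type} [Group T] [Finite T] (j : T →* Matrix ι ι F) (hj : Function.Injective j) (hd : ∀ t, (j t).det = 1)
    (hi : ∀ t v, Q (j t *ᵥ v) = Q v) {D : Subgroup T} (hD : IsPGroup 2 D) (hab : ∀ a ∈ D, ∀ b ∈ D, Commute a b) {g : T}
    (hg : ¬ 2 ∣ orderOf g) (hc : ∀ d ∈ D, Commute d g) :
    2 * Nat.card D ≤ 2 ^ Fintype.card ι ∧ (g = 1 ∨ 8 * Nat.card D ≤ 2 ^ Fintype.card ι) := by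
  have : Fact (Nat.Prime 2) := ⟨Nat.prime_two⟩
  let σ : T →* Module.End F (ι → F) := (toLinAlgEquiv' : Matrix ι ι F ≃ₐ[F] _).toMonoidHom.comp j
  have hσ : Function.Injective σ := (toLinAlgEquiv' : Matrix ι ι F ≃ₐ[F] _).injective.comp hj
  have h1 : ∀ t u v, QuadraticMap.polarBilin Q (σ t u) (σ t v) = QuadraticMap.polarBilin Q u v := fun t u v => by
    change QuadraticMap.polar Q (j t *ᵥ u) (j t *ᵥ v) = QuadraticMap.polar Q u v
    rw [QuadraticMap.polar, ← mulVec_add, hi, hi, hi, QuadraticMap.polar]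
  let ρ : D × ℤˣ →* Module.End F (ι → F) :=
    { toFun := fun x => x.2 • σ x.1
      map_one' := by simp
      map_mul' := fun x y => by rw [smul_mul_smul_comm, ← map_mul]; rfl }
  have hρ : ∀ x, ρ x = x.2 • σ x.1 := fun _ => rfl
  have H : A3.St (QuadraticMap.polarBilin Q) ρ (σ g) :=
    { h3 := Nat.card_eq_fintype_card.trans hF
      sy := QuadraticMap.polar_comm Q
      pg := fun x => by
        obtain ⟨k, hk⟩ := hD x.1
        exact ⟨k + 1, Prod.ext (by rw [Prod.pow_fst, pow_succ, pow_mul, hk, one_pow]; rfl)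
          (by rw [Prod.pow_snd, pow_succ', pow_mul, Int.units_sq, one_pow]; rfl)⟩
      cm := fun a b => Prod.ext (Subtype.ext (hab _ a.1.2 _ b.1.2)) (mul_comm _ _)
      iso := fun a u v => by rcases Int.units_eq_one_or a.2 with h | h <;> simp [hρ, h, ← h1 a.1 u v]
      yi := h1 g
      yo := ⟨orderOf g, Nat.odd_iff.2 (by omega), by rw [← map_pow, pow_orderOf_eq_one, map_one]⟩
      yc := fun a => ((hc _ a.1.2).map σ).smul_left _ }
  have h2 := H.card_le (fun a ha => ?_) (fun x hx => hQ.1 x hx) (by simpa using h7)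
  · rw [Nat.card_prod, Nat.card_eq_fintype_card (α := ℤˣ), Fintype.card_units_int, Module.finrank_fintype_fun_eq_card] at h2
    exact ⟨by omega, h2.2.imp (fun h => hσ (h.trans σ.map_one.symm)) fun h => by omega⟩
  rw [hρ] at ha
  rcases Int.units_eq_one_or a.2 with h | h
  · exact Prod.ext (Subtype.ext (hσ (by simpa [h] using ha))) h
  · have h3 : j a.1 = -1 := (toLinAlgEquiv' : Matrix ι ι F ≃ₐ[F] _).injective (by
      rw [map_neg, map_one, ← ha, h, Units.neg_smul, one_smul, neg_neg]; rfl)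
    have h4 := hd a.1
    rw [h3, det_neg, det_one, mul_one, ho.neg_one_pow] at h4
    exact absurd (by linear_combination h4 + H.three) (one_ne_zero (α := F))

/-- no local data of order divisible by `32` -/
theorem noA_so (hF : Fintype.card F = 3) (Q : QuadraticForm F (ι → F))
    (hQ : (QuadraticMap.polarBilin Q).Nondegenerate) (h7 : Fintype.card ι = 7)
    {T : Type} [Group T] [Finite T] (j : T →* Matrix ι ι F) (hj : Function.Injective j) (hd : ∀ t, (j t).det = 1)
    (hi : ∀ t v, Q (j t *ᵥ v) = Q v) (hT : ¬ LV.AbS 2 T) : NoA 2 5 T := by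
  have : Fact (Nat.Prime 2) := ⟨Nat.prime_two⟩
  intro D h h5
  obtain ⟨g, hg, h1, h2⟩ := h.syl
  rcases (card_le_so hF Q hQ (h7 ▸ by decide) h7.le j hj hd hi h.pg h.ab hg h1).2 with rfl | h3
  · exact hT (h.abS fun P hP hle => h2 P hP hle fun k _ => Commute.one_right k)
  · have := Nat.le_of_dvd Nat.card_pos h5
    rw [h7] at h3
    omega

theorem noA_o73 (hF : Fintype.card F = 3) : NoA 2 5 (POmega F (quadFormOdd 3 F)) := by
  have : Fact (Nat.Prime 2) := ⟨Nat.prime_two⟩
  have h3 : (3 : F) = 0 := by simpa [hF] using FiniteField.cast_card_eq_zero F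
  have h2 : (2 : F) ≠ 0 := fun h => one_ne_zero (α := F) (by linear_combination h3 - h)
  have hc := S0292.result hF (by decide) 3 le_rfl
  rw [← coe_quadOdd] at hc ⊢
  have hQ := quadOdd_nondegenerate (m := 3) h2
  have h7 : Fintype.card (Unit ⊕ (Fin 3 ⊕ Fin 3)) = 7 := by simp
  generalize quadOdd 3 F = Q at *
  let j : Omega F Q →* Matrix _ _ F := (Units.coeHom _).comp (TO.FO.jO F Q)
  have hj : Function.Injective j := Units.val_injective.comp TO.FO.jO_inj
  have hd : ∀ t, (j t).det = 1 := fun t =>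
    ((ClassicalGeometry.OmegaIndex.mem_Omega_iff h2 Q hQ (by omega) one_ne_zero t.1).1 t.2).1
  have hi : ∀ t v, Q (j t *ᵥ v) = Q v := fun t v => t.1.2 v v
  have hz : Subgroup.center (Omega F Q) = ⊥ := eq_bot_iff.2 fun z hz => by
    refine hj (((TO.FO.center_Omega (fun v hv => hQ.1 v hv) (by omega) z).1 hz).resolve_right (fun h => ?_) |>.trans
      j.map_one.symm)
    have h4 := hd z
    rw [show j z = -1 from h, det_neg, det_one, mul_one, h7] at h4
    exact h2 (by linear_combination -h4)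
  let e := ((QuotientGroup.quotientMulEquivOfEq hz).trans QuotientGroup.quotientBot).symm
  refine (noA_so hF Q hQ h7 j hj hd hi fun h => ?_).congr e
  obtain ⟨P⟩ : Nonempty (Sylow 2 (Omega F Q)) := inferInstance
  have h4 := (card_le_so hF Q hQ (h7 ▸ by decide) h7.le j hj hd hi P.isPGroup' (g := 1)
    (fun a ha b hb => congrArg Subtype.val ((h P).is_comm.comm ⟨a, ha⟩ ⟨b, hb⟩)) (by simp) fun d _ => .one_right d).1
  have h5 : 2 ^ 7 ∣ Nat.card (Omega F Q) := by
    have h6 : Nat.card (Omega F Q) = Nat.card (POmega F Q) := Nat.card_congr e.toEquiv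
    simp only [Finset.prod_range_succ, Finset.prod_range_zero] at hc
    omega
  have := Nat.le_of_dvd Nat.card_pos (P.pow_dvd_card_of_pow_dvd_card h5)
  rw [h7] at h4
  omega

theorem o73 : O73 := fun _ _ _ hF => row_two (noA_o73 hF)

/-- **the row of the odd-dimensional orthogonal groups** -/
theorem ev_oodd : RowFor (Ev COdd) := ev_odd o73

end Cfsg.Agent.KM.Two
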