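import Cfsg.Agent.KM.Two.O73
import Cfsg.Agent.MK.U43.GT
import Cfsg.Agent.H64.SubG2
import Cfsg.Agent.H542.G2X.CovCross

/-!
# S4999, `l = 2` : the covers of `U₄(3)` and `G₂(3)` (helper36)
-/

set_option autoImplicit false
set_option linter.unusedSectionVars false

namespace Cfsg.Agent.KM.Two

open Cfsg Matrix Subgroup Cfsg.Agent.KM.Sp Cfsg.Agent.LieClassical.OmegaReindex Cfsg.Agent.H447.CTab

section gen

variable {G : Type} [Group G] [Finite G] {p : ℕ} [hp : Fact p.Prime]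

theorem pg_zpowers {x : G} {k : ℕ} (h : x ^ p ^ k = 1) : IsPGroup p (zpowers x) := by
  obtain ⟨j, -, hj⟩ := (Nat.dvd_prime_pow hp.out).1 (orderOf_dvd_of_pow_eq_one h)
  exact IsPGroup.of_card ((Nat.card_zpowers x).trans hj)

theorem comm_of_abS (h : LV.AbS p G) {P : Subgroup G} (hP : IsPGroup p P) :
    ∃ S : Sylow p G, P ≤ S ∧ ∀ a ∈ (S : Subgroup G), ∀ b ∈ (S : Subgroup G), a * b = b * a := by
  obtain ⟨S, hS⟩ := hP.exists_le_sylow
  exact ⟨S, hS, fun a ha b hb => congrArg Subtype.val ((h S).is_comm.comm ⟨a, ha⟩ ⟨b, hb⟩)⟩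

/-- a `p`-element whose centralizer does not contain a Sylow subgroup -/
theorem not_abS_of_cent {x : G} {k a : ℕ} (h : x ^ p ^ k = 1) (h1 : p ^ a ∣ Nat.card G)
    (h2 : ¬ p ^ a ∣ Nat.card (centralizer ({x} : Set G))) : ¬ LV.AbS p G := fun hA => by
  obtain ⟨S, h3, h4⟩ := comm_of_abS hA (pg_zpowers h)
  exact h2 ((S.pow_dvd_card_of_pow_dvd_card h1).trans (card_dvd_of_le fun g hg =>
    mem_centralizer_singleton_iff.2 (h4 g hg x (h3 (mem_zpowers x)))))

/-- an element of order four which is inverted by a `2`-element -/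
theorem not_abS_of_inv {a b : G} (ha : a ^ 2 ^ 2 = 1) (hb : b ^ 2 ^ 1 = 1) (h : b * a * b⁻¹ = a⁻¹) (hne : a * a ≠ 1) :
    ¬ LV.AbS 2 G := fun hA => by
  have : Fact (Nat.Prime 2) := ⟨Nat.prime_two⟩
  obtain ⟨S, h3, h4⟩ := comm_of_abS hA ((pg_zpowers ha).to_sup_of_normal_left' (pg_zpowers hb)
    (zpowers_le.2 (mem_normalizer_fintype (by
      rintro _ ⟨k, rfl⟩
      exact ⟨-k, by rw [← conj_zpow, h]; simp⟩))))
  rw [h4 b (h3 (mem_sup_right (mem_zpowers b))) a (h3 (mem_sup_left (mem_zpowers a))), mul_inv_cancel_right] at h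
  exact hne (mul_eq_one_iff_eq_inv.2 h)

/-- from a class list -/
theorem noA_of_tab {k d : ℕ} (T : ClassTab G k) (h : ∀ i, p ∣ orderOf (T.x i) ∨ orderOf (T.x i) = 1 ∨ ¬ p ^ d ∣ T.c i)
    (hS : ¬ LV.AbS p G) : NoA p d G := by
  intro D hD h0
  obtain ⟨g, hg, h1, h2⟩ := hD.syl
  obtain ⟨i, hi⟩ := T.cover g
  obtain ⟨c, rfl⟩ := isConj_iff.1 hi
  have h3 : orderOf (c * T.x i * c⁻¹) = orderOf (T.x i) := (MulAut.conj c).orderOf_eq _
  rcases h i with h | h | h
  · exact hg (h3 ▸ h)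
  · exact hS (hD.abS fun P hP hle => h2 P hP hle fun k _ => by
      rw [orderOf_eq_one_iff.1 (h3.trans h)]; exact Commute.one_right k)
  · refine h (h0.trans ?_)
    rw [← T.card, ← card_map_of_injective (f := (MulAut.conj c⁻¹).toMonoidHom) (MulAut.conj c⁻¹).injective]
    refine card_dvd_of_le ?_
    rintro _ ⟨y, hy, rfl⟩
    have h4 := (h1 y hy).map (MulAut.conj c⁻¹)
    rw [show MulAut.conj c⁻¹ (c * T.x i * c⁻¹) = T.x i by simp [mul_assoc]] at h4
    exact mem_centralizer_singleton_iff.2 h4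

end gen

open Cfsg.Agent.MK.U43.GT Cfsg.Agent.TwoF.XL.U43 in
theorem noA_M : NoA 2 5 M := by
  have : Fact (Nat.Prime 2) := ⟨Nat.prime_two⟩
  refine noA_of_tab tab (fun i => ?_) (not_abS_of_cent (x := tab.x 14) (k := 3) (a := 4) ?_ ?_ ?_)
  · rw [tab_x, ord_rep i.2, tab_c]
    revert i
    decide
  · rw [← orderOf_dvd_iff_pow_eq_one, tab_x, ord_rep (14 : Fin 20).2]
    decide
  · rw [card_M]
    decide
  · rw [tab.card, tab_c]
    decide

variable {F : Type} [Field F] [Fintype F]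

theorem noA_u43 (hF : Fintype.card F = 9) : NoA 2 5 (PSU 4 F 3) := by
  have : Fact (Nat.Prime 2) := ⟨Nat.prime_two⟩
  obtain ⟨e⟩ := TwoF.XL.U43.iso (F := F) hF
  exact noA_M.congr e.symm

/-- **`U₄(3)`** -/
theorem row_u43 (hF : Fintype.card F = 9) : Row 2 (PSU 4 F 3) := row_two (noA_u43 hF)

theorem not_abS_g2 (h2 : (2 : F) ≠ 0) : ¬ LV.AbS 2 ↥(Lie.chevG2.group F) := by
  obtain ⟨σ, hσ⟩ := H542.G2X.exists_sigma (F := F)
  let a : SpecialLinearGroup (Fin 3) F := ⟨!![0, -1, 0; 1, 0, 0; 0, 0, 1], by simp [det_fin_three]⟩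
  let b : SpecialLinearGroup (Fin 3) F := ⟨!![0, 1, 0; 1, 0, 0; 0, 0, -1], by simp [det_fin_three]⟩
  have h1 : b * b = 1 := Subtype.ext (show b.1 * b.1 = 1 by simp [b, one_fin_three])
  have h3 : b * a * b * a = 1 := Subtype.ext (show b.1 * a.1 * b.1 * a.1 = 1 by simp [a, b, one_fin_three])
  have h4 : a * a * (a * a) = 1 := Subtype.ext (show a.1 * a.1 * (a.1 * a.1) = 1 by simp [a, one_fin_three])
  refine not_abS_of_inv (a := σ a) (b := σ b) ?_ ?_ ?_ fun h => h2 ?_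
  · rw [← map_pow, show a ^ 2 ^ 2 = a * a * (a * a) by simp [pow_succ, mul_assoc], h4, map_one]
  · rw [← map_pow, pow_one, sq, h1, map_one]
  · rw [← map_inv, ← map_inv, ← map_mul, ← map_mul, inv_eq_of_mul_eq_one_right h1, eq_inv_of_mul_eq_one_left h3]
  · have h5 : (a.1 * a.1) 0 0 = (1 : Matrix (Fin 3) (Fin 3) F) 0 0 :=
      congrArg (fun x : SpecialLinearGroup (Fin 3) F => x.1 0 0) (hσ ((map_mul σ a a).trans (h.trans σ.map_one.symm)))
    simp [a] at h5
    linear_combination -h5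

/-- the subgroups of `Ω₇(3)` -/
theorem noA_sub (hF : Fintype.card F = 3) {T : Type} [Group T] [Finite T] (f : T →* POmega F (quadFormOdd 3 F))
    (hf : Function.Injective f) (hT : ¬ LV.AbS 2 T) : NoA 2 5 T := by
  have h3 : (3 : F) = 0 := by simpa [hF] using FiniteField.cast_card_eq_zero F
  have h2 : (2 : F) ≠ 0 := fun h => one_ne_zero (α := F) (by linear_combination h3 - h)
  revert f
  rw [← coe_quadOdd]
  intro f hf
  have hQ := quadOdd_nondegenerate (m := 3) h2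
  have h7 : Fintype.card (Unit ⊕ (Fin 3 ⊕ Fin 3)) = 7 := by simp
  generalize quadOdd 3 F = Q at *
  let j : Omega F Q →* Matrix _ _ F := (Units.coeHom _).comp (TO.FO.jO F Q)
  have hj : Function.Injective j := Units.val_injective.comp TO.FO.jO_inj
  have hd : ∀ t, (j t).det = 1 := fun t =>
    ((ClassicalGeometry.OmegaIndex.mem_Omega_iff h2 Q hQ (by omega) one_ne_zero t.1).1 t.2).1
  have hz : center (Omega F Q) = ⊥ := eq_bot_iff.2 fun z hz => by
    refine hj (((TO.FO.center_Omega (fun v hv => hQ.1 v hv) (by omega) z).1 hz).resolve_right (fun h => ?_) |>.trans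
      j.map_one.symm)
    have h4 := hd z
    rw [show j z = -1 from h, det_neg, det_one, mul_one, h7] at h4
    exact h2 (by linear_combination -h4)
  let e := (QuotientGroup.quotientMulEquivOfEq hz).trans QuotientGroup.quotientBot
  exact noA_so hF Q hQ h7 (j.comp (e.toMonoidHom.comp f)) (hj.comp (e.injective.comp hf)) (fun t => hd _)
    (fun t v => (e (f t)).1.2 v v) hT

theorem noA_g23 (hF : Fintype.card F = 3) : NoA 2 5 ↥(Lie.chevG2.group F) := by
  have h3 : (3 : F) = 0 := by simpa [hF] using FiniteField.cast_card_eq_zero F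
  have h2 : (2 : F) ≠ 0 := fun h => one_ne_zero (α := F) (by linear_combination h3 - h)
  obtain ⟨L, ⟨e⟩⟩ := H64.SubG2.exists_sub h2 (MulEquiv.refl (POmega F (quadFormOdd 3 F)))
  exact noA_sub hF (L.subtype.comp e.symm.toMonoidHom) (Subtype.val_injective.comp e.symm.injective) (not_abS_g2 h2)

/-- **`G₂(3)`** -/
theorem row_g23 (F : Type) [Field F] [Fintype F] (hF : Fintype.card F = 3) : Row 2 ↥(Lie.chevG2.group F) :=
  row_two (noA_g23 hF)

end Cfsg.Agent.KM.Two
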