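import Cfsg.Agent.H608.KKL.C2
import Cfsg.Agent.H850.KS.Final
import Cfsg.Agent.TO.Can

/-!
# S4999, `2`-blocks with an abelian defect group `D` : the inertia group fixes a subgroup of index at most four (helper36)
-/

set_option autoImplicit false
set_option linter.unusedSectionVars false
set_option maxHeartbeats 400000

namespace Cfsg.Agent.KM.Two

open Cfsg Cfsg.Agent.Blocks.Basic Cfsg.Agent.Blocks.Local Cfsg.Agent.Blocks Cfsg.Agent.Characters
open Cfsg.Agent.H649 Cfsg.Agent.H651 Cfsg.Agent.H650 Cfsg.Agent.H652.DoubleCount Cfsg.Agent.H608.KKL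
open Cfsg.Agent.H645.FusCount (stab mem_stab)
open Cfsg.Agent.H644 (isMaximalBrauerPair_of_isDefectGroup isDefectGroup_of_isMaximalBrauerPair)
open Cfsg.Agent.H644.CentralQuot (defl infl infl_injective blockRank_defl isPBlock_defl)

universe u

section star

variable {G : Type u} [Group G] [Finite G] {p : ℕ} [Fact p.Prime] {M : Ideal AlgInt}
  {B : Set (IrrCharacter G)} {a : BrauerPairIdx G}

/-- every linear character of a subgroup fixed by the stabiliser has an invariant extension -/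
theorem exists_inv_ext (hM : IsPModular p M) (hmax : IsMaximalBrauerPair p M B a.1 a.2)
    (hab : ∀ x ∈ a.1, ∀ y ∈ a.1, x * y = y * x) {U : Subgroup a.1}
    (hU : ∀ v ∈ U, ∀ s : stab a, H608.F5.act a s v = v) (ν : U →* ℂˣ) :
    ∃ l : a.1 →* ℂˣ, (∀ (s : stab a) (v : a.1), l (H608.F5.act a s v) = l v) ∧ ∀ v : U, l v = ν v := by
  let _ : CommGroup a.1 := { (inferInstance : Group a.1) with
    mul_comm := fun x y => Subtype.ext (hab x x.2 y y.2) }
  obtain ⟨μ, hμ⟩ := MonoidHom.domRestrict_surjective ℂ U ν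
  obtain ⟨l, m, hm, h1, h2⟩ := H608.F5.exists_stable_hom hM hmax μ
  obtain ⟨n, hn⟩ := IsPGroup.iff_card.1 hmax.1.1.1
  have h3 : m.Coprime (Nat.card a.1) := by
    rw [hn]
    exact ((Nat.Prime.coprime_iff_not_dvd Fact.out).2 hm).symm.pow_right n
  obtain ⟨j, -, hj⟩ := Nat.exists_mul_mod_eq_of_coprime 1 h3 Nat.card_pos.ne'
  refine ⟨l ^ j, fun s v => by rw [MonoidHom.pow_apply, MonoidHom.pow_apply, h1], fun v => ?_⟩
  rw [MonoidHom.pow_apply, h2 v (hU v v.2), ← pow_mul, ← hμ, ← map_pow, ← pow_mod_natCard, hj, pow_mod_natCard, pow_one]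
  rfl

/-- **counting over the characters of a central subgroup** -/
theorem card_ge_sub (hM : IsPModular p M) (hmax : IsMaximalBrauerPair p M B a.1 a.2)
    (hab : ∀ x ∈ a.1, ∀ y ∈ a.1, x * y = y * x) {U : Subgroup G} [U.Normal] (hU : U ≤ a.1)
    (hc : U ≤ Subgroup.center G) : Nat.card U * Nat.card (defl U B) ≤ Nat.card B := by
  classical
  have := isPrime_of_isPModular hM
  have := Fintype.ofFinite G
  have hpr : p.Prime := Fact.out
  have huc : ∀ u ∈ U, ∀ g : G, g * u = u * g := fun u hu => Subgroup.mem_center_iff.1 (hc hu)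
  choose l hl1 hl2 using exists_inv_ext hM hmax hab (U := U.subgroupOf a.1) fun v hv s => Subtype.ext (by
    rw [H608.F5.act_coe, huc (v : G) hv, mul_inv_cancel_right])
  have hst : ∀ i, IsStable p M a (ext0 a.1 (l i)) := fun i => isStable_of_inv hM hmax hab _ (hl1 i)
  have hgen : ∀ i (χ : IrrCharacter G), χ ∈ B →
      IsGeneralizedCharacter G (star p M a (ext0 a.1 (l i)) (χ : G → ℂ)) := fun i χ _ =>
    star_isGeneralizedCharacter hM hmax (isGeneralizedCharacter_ext0 _) (hst i) (Core.isIrr_isCharacter χ.2)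
  have hirr : ∀ i (χ : IrrCharacter G), χ ∈ B →
      IsIrrCharacter G (star p M a (ext0 a.1 (l i)) (χ : G → ℂ)) := fun i χ hχ =>
    star_isIrr hM hmax (hst i) (fun _ hg => ext0_mul_conj _ hg) (ext0_apply_one _) hχ (hgen i χ hχ)
  have hone : ∀ i (χ : IrrCharacter G), χ ∈ B →
      star p M a (ext0 a.1 (l i)) (χ : G → ℂ) 1 = (χ : G → ℂ) 1 := fun i χ hχ => by
    rw [star_apply_reg hM hmax (hst i) hχ (by rw [orderOf_one, Nat.dvd_one]; exact hpr.ne_one), ext0_apply_one,
      one_mul]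
  let Φ : (U.subgroupOf a.1 →* ℂˣ) × defl U B → B := fun s =>
    ⟨⟨star p M a (ext0 a.1 (l s.1)) (infl U s.2.1 : G → ℂ), hirr s.1 _ s.2.2⟩, star_mem hM hmax s.2.2 (hirr s.1 _ s.2.2)⟩
  have hΦ : Function.Injective Φ := by
    rintro ⟨i, θ, hθ⟩ ⟨j, ψ, hψ⟩ he
    have he' : star p M a (ext0 a.1 (l i)) (infl U θ : G → ℂ) = star p M a (ext0 a.1 (l j)) (infl U ψ : G → ℂ) :=
      congrArg (fun s : B => ((s : IrrCharacter G) : G → ℂ)) he
    have h1 := congrFun he' 1
    rw [hone i _ hθ, hone j _ hψ] at h1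
    have h8 : i = j := MonoidHom.ext fun v => by
      have hu : (v.1 : G) ∈ U := v.2
      have h2 := congrFun he' v.1
      rw [star_apply_central hM hmax (hst i) hθ v.1.2 (huc _ hu), star_apply_central hM hmax (hst j) hψ v.1.2 (huc _ hu)] at h2
      have h3 : ∀ θ : IrrCharacter (G ⧸ U), (infl U θ : G → ℂ) v.1 = (infl U θ : G → ℂ) 1 := fun θ =>
        congrArg (θ : (G ⧸ U) → ℂ) ((QuotientGroup.eq_one_iff _).2 hu)
      rw [h3, h3, h1] at h2
      have h5 := mul_right_cancel₀ (Core.isIrr_apply_one_ne_zero (infl U ψ).2) h2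
      rw [ext0_of_mem _ v.1.2, ext0_of_mem _ v.1.2] at h5
      exact (hl2 i v).symm.trans ((Units.ext h5).trans (hl2 j v))
    subst h8
    have h9 := classInner_star_self hM hmax (hst i) (fun _ hg => ext0_mul_conj _ hg) (χ := infl U θ) (ψ := infl U ψ) hθ
    have h10 : θ = ψ := by
      by_contra hne
      have h11 : classInner (infl U θ : G → ℂ) (infl U ψ : G → ℂ) = 0 :=
        Core.classInner_irr_ne (infl _ θ).2 (infl _ ψ).2 fun h => hne (infl_injective _ (Subtype.ext h))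
      rw [h11, ← he', Core.classInner_irr_self (hirr i _ hθ)] at h9
      exact one_ne_zero h9
    subst h10
    rfl
  have hfin : Finite (IrrCharacter G) := Core.finite_irr
  have h1 := Nat.card_le_card_of_injective Φ hΦ
  let _ : CommGroup (U.subgroupOf a.1) := { (inferInstance : Group (U.subgroupOf a.1)) with
    mul_comm := fun x y => Subtype.ext (Subtype.ext (hab _ x.1.2 _ y.1.2)) }
  rwa [Nat.card_prod, CommGroup.card_monoidHom_of_hasEnoughRootsOfUnity,
    Nat.card_congr (Subgroup.subgroupOfEquivOfLe hU).toEquiv] at h1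

end star

section two

variable {G : Type u} [Group G] [Finite G] {M : Ideal AlgInt} {B : Set (IrrCharacter G)}

/-- defect at most two -/
theorem card_small (hM : IsPModular 2 M) (hB : IsPBlock M B) {D : Subgroup G} (hD : IsDefectGroup 2 M B D)
    (hab : ∀ x ∈ D, ∀ y ∈ D, x * y = y * x) (h4 : Nat.card D ∣ 4) : Nat.card D ≤ Nat.card B := by
  have : Fact (Nat.Prime 2) := ⟨Nat.prime_two⟩
  have := isPrime_of_isPModular hM
  have hfin : Finite (IrrCharacter G) := Core.finite_irr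
  obtain ⟨c, hc, T, hT⟩ := H850.KS.exists_root hM hB hD hab
  obtain ⟨n, h2, hn⟩ := (Nat.dvd_prime_pow Nat.prime_two (m := 2)).1 h4
  rcases Nat.eq_zero_or_pos n with rfl | h0
  · obtain ⟨χ, hχ⟩ := isPBlock_nonempty hB
    have : Nonempty B := ⟨⟨χ, hχ⟩⟩
    exact hn.le.trans Nat.card_pos
  by_cases hcyc : IsCyclic D
  · obtain ⟨h1, -, X, Y, h3, h5, h6, h7, -⟩ := S4696.result 2 M hM D hcyc n h0 hn B hB hD c hc T (H850.KS.hT_iff hT) _ rfl
    rw [Nat.dvd_one.1 h1] at h6 h7
    rw [h3, Nat.card_coe_set_eq, Set.ncard_union_eq h5, ← Nat.card_coe_set_eq, ← Nat.card_coe_set_eq, h6, h7, hn]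
    omega
  · have h5 : n = 2 := by
      by_contra h6
      exact hcyc (isCyclic_of_prime_card (p := 2) (by rw [hn, show n = 1 by omega, pow_one]))
    subst h5
    exact (hn.trans (S4637.result M hM B hB D hD ⟨hn, (not_isCyclic_iff_exponent_eq_prime Nat.prime_two hn).1 hcyc⟩ c hc T hT
      _ rfl).2.1.symm).le

theorem card_ge_idx (hM : IsPModular 2 M) : ∀ (n : ℕ) (G : Type u) [Group G] [Finite G], Nat.card G = n →
    ∀ (B : Set (IrrCharacter G)) (a : BrauerPairIdx G), IsMaximalBrauerPair 2 M B a.1 a.2 →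
      (∀ x ∈ a.1, ∀ y ∈ a.1, x * y = y * x) → ∀ R ≤ a.1, Nat.card a.1 ∣ 4 * Nat.card R →
      (∀ t ∈ stab a, ∀ r ∈ R, t * r * t⁻¹ = r) → Nat.card a.1 ≤ Nat.card B ∧ blockRank 2 B ≤ 3 := by
  have : Fact (Nat.Prime 2) := ⟨Nat.prime_two⟩
  have := isPrime_of_isPModular hM
  intro n
  induction n using Nat.strong_induction_on with
  | _ n ih =>
  intro G _ _ hn B a hmax hab R hR h4 hfix
  have := Fintype.ofFinite G
  have hB := hmax.1.2.1
  have hD := isDefectGroup_of_isMaximalBrauerPair hM hmax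
  by_cases hc : R ≤ Subgroup.center G
  · have : R.Normal := ⟨fun x hx g => by
      rw [Subgroup.mem_center_iff.1 (hc hx) g, mul_inv_cancel_right]
      exact hx⟩
    have hp : IsPGroup 2 R := hmax.1.1.1.to_le hR
    have h1 := (H658.isDefectGroup_defl hM hc hp hB hD).2
    have h2 := isPBlock_defl hM hc hp hB
    have h3 : Nat.card R * Nat.card (a.1.map (QuotientGroup.mk' R)) = Nat.card a.1 := by
      rw [← Subgroup.relIndex_ker, QuotientGroup.ker_mk', card_mul_relIndex hR]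
    have h5 : Nat.card (a.1.map (QuotientGroup.mk' R)) ∣ 4 := by
      rw [← h3, mul_comm 4] at h4
      exact Nat.dvd_of_mul_dvd_mul_left Nat.card_pos h4
    refine ⟨h3.ge.trans ((Nat.mul_le_mul_left _ (card_small hM h2 h1 ?_ h5)).trans (card_ge_sub hM hmax hab hR hc)), ?_⟩
    · rintro _ ⟨x, hx, rfl⟩ _ ⟨y, hy, rfl⟩
      rw [← map_mul, hab x hx y hy, map_mul]
    · rw [← blockRank_defl hM hc hp hB]
      exact H608.F5.rank_le_three_of_dvd_four hM h2 h1 h5
  · obtain ⟨u, hu, hu1⟩ := SetLike.not_le_iff_exists.1 hc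
    rw [← H645.Watanabe.rank_eq hM hmax hab (hR hu) fun t ht => hfix t ht u hu,
      ← H645.Watanabe.card_eq hM hmax hab (hR hu) fun t ht => hfix t ht u hu]
    obtain ⟨h1, h2⟩ := bP_spec hM hmax.1.1 (hR hu)
    revert h1 h2
    generalize bP 2 M a u = b
    obtain ⟨Q, f⟩ := b
    rintro hQ hle
    have hQ' : Q = Subgroup.zpowers u := hQ
    subst hQ'
    obtain ⟨-, -, hPC, -⟩ := exists_local hM hmax hab hle
    obtain ⟨a', e1, -, e2, e3, e4, -⟩ := H645.Watanabe.exists_loc hM hmax hab hle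
    have e5 : Nat.card a'.1 = Nat.card a.1 := by
      rw [e1, Nat.card_congr (Subgroup.subgroupOfEquivOfLe hPC).toEquiv]
    rw [← e5]
    refine ih _ ?_ _ rfl f a' e2 e3 (R.subgroupOf _) (e1 ▸ fun x hx => hR hx) ?_ fun t ht r hr =>
      Subtype.ext (hfix t ((e4 t).1 ht) r hr)
    · rw [← hn, ← Subgroup.card_top (G := G)]
      refine lt_of_le_of_ne (Subgroup.card_le_of_le le_top) fun h => hu1 (Subgroup.mem_center_iff.2 fun g => ?_)
      have h3 := Subgroup.eq_of_le_of_card_ge le_top h.ge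
      exact (Subgroup.mem_centralizer_iff.1 (h3.ge (Subgroup.mem_top g)) u (Subgroup.mem_zpowers u)).symm
    · rw [e5, Nat.card_congr (Subgroup.subgroupOfEquivOfLe (hR.trans hPC)).toEquiv]
      exact h4

/-- heights zero, for a maximal pair -/
theorem hz_pair (hM : IsPModular 2 M) {a : BrauerPairIdx G} (hmax : IsMaximalBrauerPair 2 M B a.1 a.2)
    (hab : ∀ x ∈ a.1, ∀ y ∈ a.1, x * y = y * x) {R : Subgroup G} (hR : R ≤ a.1) (hi : R.relIndex a.1 ≤ 4)
    (hfix : ∀ t ∈ stab a, ∀ r ∈ R, t * r * t⁻¹ = r) : ∀ χ ∈ B, blockHeight 2 B (χ : G → ℂ) = 0 := by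
  have : Fact (Nat.Prime 2) := ⟨Nat.prime_two⟩
  have := isPrime_of_isPModular hM
  have := Fintype.ofFinite G
  have h1 := card_mul_relIndex hR
  have h4 : Nat.card a.1 ∣ 4 * Nat.card R := by
    obtain ⟨n, hn⟩ := IsPGroup.iff_card.1 hmax.1.1.1
    obtain ⟨j, -, hj⟩ := (Nat.dvd_prime_pow Nat.prime_two).1 (hn ▸ Dvd.intro_left _ h1)
    rw [← h1, mul_comm, hj]
    rw [hj] at hi
    exact Nat.mul_dvd_mul_right (pow_dvd_pow 2 ((Nat.pow_le_pow_iff_right (n := j) (m := 2) one_lt_two).1 hi)) _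
  obtain ⟨h2, h3⟩ := card_ge_idx hM _ G rfl B a hmax hab R hR h4 hfix
  rw [← H645.Watanabe.rank_eq hM hmax hab (one_mem _) fun t _ => by rw [mul_one, mul_inv_cancel]] at h3
  obtain ⟨h5, h6⟩ := bound hM hmax hab (one_mem _) h3
  exact h6 (le_antisymm h5 ((S0908.result 2 M hM B hmax.1.2.1 _ (isDefectGroup_of_isMaximalBrauerPair hM hmax)).ge.trans h2))

/-- **the inertia group fixes a subgroup of index at most four** -/
theorem hz_of_idx {D : Subgroup G} {θ : G → ℂ} (h : TO.Can 2 M B D θ) (R : Subgroup G) (hR : R ≤ D)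
    (hi : R.relIndex D ≤ 4) (hc : ∀ t ∈ TO.In D θ, ∀ r ∈ R, t * r * t⁻¹ = r) :
    ∀ χ ∈ B, blockHeight 2 B (χ : G → ℂ) = 0 :=
  have : Fact (Nat.Prime 2) := ⟨Nat.prime_two⟩
  have := h.prime
  hz_pair h.hM (a := ⟨D, TO.Can.root M D θ⟩) h.hmax h.comm hR hi fun t ht =>
    hc t ((h.mem_In_iff t).2 ((conjIdx_eq_iff h.he t).1 ht))

end two

end Cfsg.Agent.KM.Two
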