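import Cfsg.Agent.KM.Two.Ring

/-!
# KM, `l = 2` : commutants, halves, the Sylow property (helper34)
-/

set_option autoImplicit false
set_option linter.unusedSectionVars false
set_option maxHeartbeats 200000

namespace Cfsg.Agent.KM.Two

open Subgroup

/-- an automorphism of odd order of an abelian `2`-group which fixes the involutions is trivial -/
theorem fix_of_omega {G : Type} [Group G] {Z : Subgroup G} {t : G} (hZ : ∀ x ∈ Z, ∀ y ∈ Z, Commute x y)
    (hn : ∀ x ∈ Z, t * x * t⁻¹ ∈ Z) {n : ℕ} (ho : ¬ 2 ∣ n) (ht : ∀ x ∈ Z, Commute (t ^ n) x)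
    (h2 : ∀ x ∈ Z, x * x = 1 → t * x * t⁻¹ = x) (k : ℕ) : ∀ x ∈ Z, x ^ 2 ^ k = 1 → t * x * t⁻¹ = x := by
  induction k with
  | zero => intro x _ hx; rw [pow_zero, pow_one] at hx; rw [hx, mul_one, mul_inv_cancel]
  | succ k ih =>
    intro x hx hk
    have h1 := ih (x * x) (mul_mem hx hx) (by rw [← pow_two, ← pow_mul, ← pow_succ', hk])
    obtain ⟨w, hw⟩ : ∃ w, t * x * t⁻¹ * x⁻¹ = w := ⟨_, rfl⟩
    have hwZ : w ∈ Z := hw ▸ mul_mem (hn x hx) (inv_mem hx)
    have h3 : t * x * t⁻¹ = w * x := by rw [← hw, inv_mul_cancel_right]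
    have h4 : w * w = 1 := by
      rw [show t * (x * x) * t⁻¹ = t * x * t⁻¹ * (t * x * t⁻¹) by group, h3, mul_assoc, ← mul_assoc x,
        (hZ x hx w hwZ).eq, mul_assoc, ← mul_assoc] at h1
      exact mul_eq_right.1 h1
    have h5 : ∀ m : ℕ, t ^ m * x * (t ^ m)⁻¹ = w ^ m * x := fun m => by
      induction m with
      | zero => simp
      | succ m ih =>
        have h6 : Commute t w := mul_inv_eq_iff_eq_mul.1 (h2 w hwZ h4)
        calc t ^ (m + 1) * x * (t ^ (m + 1))⁻¹ = t * (t ^ m * x * (t ^ m)⁻¹) * t⁻¹ := by group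
          _ = w ^ m * (t * x * t⁻¹) := by rw [ih, ← mul_assoc, (h6.pow_right m).eq]; group
          _ = w ^ (m + 1) * x := by rw [h3, pow_succ, mul_assoc]
    have h6 := h5 n
    obtain ⟨m, rfl⟩ : ∃ m, n = 2 * m + 1 := ⟨n / 2, by omega⟩
    rw [(ht x hx).eq, mul_inv_cancel_right, pow_succ, pow_mul, pow_two, h4, one_pow, one_mul] at h6
    rw [h3, ← h6]

set_option synthInstance.maxSize 1024 in
theorem v4 : ∀ a b c : ℤˣ × ℤˣ, a ≠ 1 → b ≠ 1 → a * b ≠ 1 → c = 1 ∨ c * a = 1 ∨ c * b = 1 ∨ c * (a * b) = 1 := by decide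

set_option synthInstance.maxSize 1024 in
theorem v2 : ∀ a b : ℤˣ × ℤˣ, a.1 = 1 → b.1 = 1 → a = 1 ∨ b = 1 ∨ a * b = 1 := by decide

theorem index_ker_le {G : Type} [Group G] (φ : G →* ℤˣ × ℤˣ) : φ.ker.index ≤ 4 := by
  rw [index_ker]
  exact (Nat.card_le_card_of_injective _ φ.range.subtype_injective).trans (by simp)

variable {R : Type} [Ring R] [StarRing R] [Finite R] {e a c : R} {g t : unitary R} {E : Subgroup (unitary R)}

theorem eq_zero_of_neg (two : IsUnit (2 : R)) (h : a = -a) : a = 0 :=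
  two.mul_left_cancel (by rw [two_mul, mul_zero]; exact add_eq_zero_iff_eq_neg.2 h)

theorem coe_cancel (h : (g : R) * a = 0) : a = 0 := by
  rw [← one_mul a, ← Unitary.coe_star_mul_self g, mul_assoc, h, mul_zero]

/-- the projection of an involution -/
theorem exists_pj (two : IsUnit (2 : R)) (h : g * g = 1) :
    ∃ e : R, Pj e ∧ (g : R) = 1 - 2 * e ∧ ∀ a, Commute (g : R) a → Commute e a := by
  obtain ⟨u, hu⟩ := two.exists_right_inv
  have h2 : ∀ x : R, Commute 2 x := fun x => Commute.ofNat_left 2 x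
  have h1 : (g : R) * g = 1 := congrArg Subtype.val h
  have h3 : star (g : R) = g := by rw [← coe_inv, inv_eq_of_mul_eq_one_right h]
  have h4 : 2 * (u * (1 - (g : R))) = 1 - g := by rw [← mul_assoc, hu, one_mul]
  generalize u * (1 - (g : R)) = e at h4
  refine ⟨e, ⟨two.mul_left_cancel (two.mul_left_cancel ?_), two.mul_left_cancel ?_⟩, by rw [h4, sub_sub_cancel],
    fun a ha => two.mul_left_cancel ?_⟩
  · rw [← mul_assoc 2 e e, h4, ← mul_assoc, (h2 (1 - (g : R))).eq, mul_assoc, h4,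
      show (1 - (g : R)) * (1 - g) = 1 - g - g + g * g by noncomm_ring, h1]
    noncomm_ring
  · have h5 := congrArg star h4
    rw [star_mul, star_ofNat, star_sub, star_one, h3] at h5
    rw [(h2 _).eq, h5, h4]
  · rw [← mul_assoc, ← mul_assoc, (h2 a).eq, mul_assoc a, h4]
    exact ((Commute.one_left a).sub_left ha).eq

/-- the commutant -/
def Cm (E : Subgroup (unitary R)) : Subring R := Subring.centralizer (Subtype.val '' (E : Set (unitary R)))

/-- the bicommutant -/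
def Bc (E : Subgroup (unitary R)) : Subring R := Subring.centralizer (Cm E : Set R)

theorem mem_Cm : a ∈ Cm E ↔ ∀ d ∈ E, Commute (d : R) a :=
  ⟨fun h d hd => h d ⟨d, hd, rfl⟩, fun h _ ⟨d, hd, e⟩ => e ▸ h d hd⟩

theorem mem_Bc : a ∈ Bc E ↔ ∀ c ∈ Cm E, Commute c a := Iff.rfl

theorem coe_mem_Bc (h : g ∈ E) : (g : R) ∈ Bc E := fun _ hc => (mem_Cm.1 hc g h).symm

theorem cut_mem {S : Subring R} (he : Pj e) (hg : Commute (g : R) e) (h1 : (g : R) ∈ S) (h2 : e ∈ S) :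
    (cut g e : R) ∈ S := by
  rw [cut_val he hg]
  exact add_mem (mul_mem h1 h2) (sub_mem (one_mem _) h2)

theorem cut_congr {h : unitary R} (he : Pj e) (h1 : Commute (g : R) e) (h2 : Commute (h : R) e)
    (h3 : (g : R) * e = h * e) : cut g e = cut h e := Subtype.ext (by rw [cut_val he h1, cut_val he h2, h3])

theorem cj_mem_Cm (h : ∀ d ∈ E, t⁻¹ * d * t⁻¹⁻¹ ∈ E) (ha : a ∈ Cm E) : cj t a ∈ Cm E := mem_Cm.2 fun d hd => by
  have h1 := (mem_Cm.1 ha _ (h d hd)).map (cj t)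
  rwa [← cj_coe, cj_inv'] at h1

theorem cj_mem_Bc (h : ∀ d ∈ E, t * d * t⁻¹ ∈ E) (ha : a ∈ Bc E) : cj t a ∈ Bc E := mem_Bc.2 fun c hc => by
  have h1 := (mem_Bc.1 ha _ (cj_mem_Cm (t := t⁻¹) (by rwa [inv_inv]) hc)).map (cj t)
  rwa [cj_inv'] at h1

/-- the group theoretic setting: `J` is the image of `Y`, `E` is the image of the defect group -/
structure St (ν : unitary R →* ℤˣ × ℤˣ) (J E : Subgroup (unitary R)) (K : ℕ) : Prop where
  two : IsUnit (2 : R)
  det : ∀ g : unitary R, IsUnit (1 + (g : R)) → (ν g).1 = 1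
  ker : ∀ g, ν g = 1 → g ∈ J
  le : E ≤ J
  pg : ∀ d ∈ E, d ^ 2 ^ K = 1
  syl : ∀ g ∈ J, (g : R) ∈ Bc E → (∀ d ∈ E, g * d * g⁻¹ ∈ E) → g ^ 2 ^ K = 1 → g ∈ E

open Cfsg Cfsg.Agent.TO Cfsg.Agent.BHZ.Nil in
theorem exists_st {Y : Type} [Group Y] [Finite Y] (f : Fm R Y) {G : Type} [Group G] [Finite G] {π : Y →* G}
    (hπ : Function.Surjective π) (hk : ∀ y, π y = 1 → (f.j y : R) = 1 ∨ (f.j y : R) = -1) {M : Ideal AlgInt}
    {b : Set (IrrCharacter G)} {D : Subgroup G} {θ : G → ℂ} (h : Can 2 M b D θ) :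
    ∃ K, St f.ν f.j.range ((D.comap π).map f.j) K := by
  have hD : IsPGroup 2 D := h.pg
  have h1 : IsPGroup 2 (D.comap π) := hD.comap_of_ker_isPGroup π fun y => ⟨1, Subtype.ext (f.inj (Subtype.ext (by
    show ((f.j (y.1 ^ 2 ^ 1) : unitary R) : R) = f.j 1
    rw [map_pow, map_one, pow_one, pow_two, coe_mul']
    rcases hk y y.2 with e | e <;> rw [e] <;> simp)))⟩
  obtain ⟨K, hK⟩ := IsPGroup.iff_card.1 h1
  have hc : π.ker ≤ center Y := fun y hy => mem_center_iff.2 fun x => f.inj (Subtype.ext (by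
    rw [map_mul, map_mul, coe_mul', coe_mul']
    rcases hk y hy with e | e <;> rw [e] <;> simp))
  have h2 : ∀ y, (f.j y : R) ∈ Bc ((D.comap π).map f.j) → π y ∈ KK 2 D := fun y hy => by
    have h3 := FO.bicomm_KK (j := Unitary.toUnits.comp f.j) (Unitary.toUnits_injective.comp f.inj) hπ hc h1 (x := y)
      fun a ha => hy a (mem_Cm.2 fun _ ⟨d, hd, e⟩ => e ▸ (ha d hd).symm)
    rwa [map_comap_eq_self_of_surjective hπ] at h3
  refine ⟨K, f.two, f.det, f.ker, map_le_range _ _, ?_, ?_⟩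
  · rintro _ ⟨d, hd, rfl⟩
    rw [← map_pow, ← hK, show d ^ Nat.card (D.comap π) = 1 from congrArg Subtype.val (pow_card_eq_one' (x := (⟨d, hd⟩ :
      D.comap π))), map_one]
  · rintro _ ⟨y, rfl⟩ hy hn hp
    have h3 : π y ∈ normalizer (D : Set G) := mem_normalizer_fintype fun d hd => by
      obtain ⟨d, rfl⟩ := hπ d
      obtain ⟨x, hx, e⟩ := hn _ ⟨d, hd, rfl⟩
      rw [← map_inv, ← map_mul, ← map_mul] at e ⊢
      exact f.inj e ▸ hx
    have h4 : IsPGroup 2 (zpowers (π y)) := by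
      rintro ⟨_, n, rfl⟩
      refine ⟨K, Subtype.ext ?_⟩
      show (π y ^ n) ^ 2 ^ K = 1
      rw [← zpow_natCast, ← zpow_mul, mul_comm, zpow_mul, zpow_natCast, ← map_pow,
        f.inj (((map_pow _ _ _).trans hp).trans (map_one _).symm), map_one, one_zpow]
    have h5 := cent_syl (π := MonoidHom.id G) h.hM h.hb h.hD Function.surjective_id (fun x hx => by
      rw [show x = 1 from hx]; exact one_mem _) (h4.to_sup_of_normal_right' hD (zpowers_le.2 h3))
      (by rw [map_id]; exact le_sup_right) (by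
        rw [map_id]
        refine sup_le (zpowers_le.2 (h2 y hy)) fun d hd => ?_
        obtain ⟨d, rfl⟩ := hπ d
        exact h2 d (coe_mem_Bc ⟨d, hd, rfl⟩))
    rw [map_id] at h5
    exact ⟨y, show π y ∈ D from h5 ▸ mem_sup_left (mem_zpowers _), rfl⟩

end Cfsg.Agent.KM.Two
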