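import Cfsg.Agent.KM.Two.MainN

/-!
# KM, `l = 2` : an abelian defect group, atoms and the subgroup `NN` (helper34)
-/

set_option autoImplicit false
set_option linter.unusedSectionVars false
set_option maxHeartbeats 200000

namespace Cfsg.Agent.KM.Two

open Subgroup

variable {R : Type} [Ring R] [StarRing R] [Finite R] {e f a c : R} {g t s u d n : unitary R}
  {J E : Subgroup (unitary R)} {ν : unitary R →* ℤˣ × ℤˣ} {K : ℕ} {η : unitary R → ℂ}

theorem inv_mem_Cm (h : (g : R) ∈ Cm E) : ((g⁻¹ : unitary R) : R) ∈ Cm E := mem_Cm.2 fun d hd =>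
  congrArg Subtype.val (show Commute d g from Subtype.ext (mem_Cm.1 h d hd)).inv_right.eq

/-- the elements of the centralizer all of whose cuts lie in the kernel of `ν` -/
def NN (ν : unitary R →* ℤˣ × ℤˣ) (E : Subgroup (unitary R)) : Subgroup (unitary R) where
  carrier := {g | (g : R) ∈ Cm E ∧ ∀ e ∈ Bc E, Pj e → ν (cut g e) = 1}
  mul_mem' := fun {a c} ha hc => ⟨mul_mem ha.1 hc.1, fun e he hp => by
    rw [cut_mul hp (he _ ha.1) (he _ hc.1), map_mul, ha.2 e he hp, hc.2 e he hp, mul_one]⟩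
  one_mem' := ⟨one_mem _, fun e _ hp => by rw [cut_one hp, map_one]⟩
  inv_mem' := fun {a} ha => ⟨inv_mem_Cm ha.1, fun e he hp => by
    rw [cut_inv hp (he _ ha.1), map_inv, ha.2 e he hp, inv_one]⟩

/-- the normaliser of the bicommutant -/
def Nz (E : Subgroup (unitary R)) (g : unitary R) : Prop := ∀ a ∈ Bc E, cj g a ∈ Bc E

theorem Nz.inv (h : Nz E g) : Nz E g⁻¹ := fun a ha => by
  obtain ⟨c, hc, rfl⟩ := (((Set.toFinite (Bc E : Set R)).injOn_iff_bijOn_of_mapsTo h).1 (cj_inj g).injOn).surjOn ha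
  rwa [cj_inv]

theorem Nz.cm (h : Nz E g) (ha : a ∈ Cm E) : cj g a ∈ Cm E := mem_Cm.2 fun d hd => by
  have h1 := (mem_Bc.1 (h.inv _ (coe_mem_Bc hd)) a ha).map (cj g)
  rw [cj_inv'] at h1
  exact h1.symm

theorem Nz.nn (h : Nz E g) (hn : n ∈ NN ν E) : g * n * g⁻¹ ∈ NN ν E := ⟨h.cm hn.1, fun e he hp => by
  rw [← cj_inv' g e, cut_cj (hp.cj _) (h.inv e he _ hn.1), map_mul, map_mul, hn.2 _ (h.inv e he) (hp.cj _), mul_one,
    map_inv, mul_inv_cancel]⟩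

/-- atoms -/
structure At (E : Subgroup (unitary R)) (e : R) : Prop where
  bc : e ∈ Bc E
  pj : Pj e
  ne : e ≠ 0
  min : ∀ f ∈ Bc E, Pj f → f * e = 0 ∨ f * e = e

theorem At.cj (he : At E e) (h : Nz E g) : At E (cj g e) :=
  ⟨h e he.bc, he.pj.cj g, fun e0 => he.ne (cj_inj g (e0.trans (map_zero _).symm)), fun f hf hp => by
    rw [← cj_inv' g f, ← map_mul]
    exact (he.min _ (h.inv f hf) (hp.cj _)).imp (fun e => by rw [e, map_zero]) fun e => by rw [e]⟩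

/-- the setting -/
structure SA (ν : unitary R →* ℤˣ × ℤˣ) (J E : Subgroup (unitary R)) (K : ℕ) (η : unitary R → ℂ) : Prop
    extends St ν J E K where
  ab : ∀ d ∈ E, (d : R) ∈ Cm E
  one : η 1 ≠ 0
  mul : ∀ a ∈ NN ν E, ∀ c ∈ NN ν E, (∀ y ∈ NN ν E, ∃ z ∈ NN ν E, y * a * y⁻¹ * c = z * (a * c) * z⁻¹) →
    η (a * c) * η 1 = η a * η c
  odd : ∀ g ∈ J, (∀ d ∈ E, g * d * g⁻¹ ∈ E) → (∀ n ∈ NN ν E, η (g * n * g⁻¹) = η n) →
    ∃ n, ¬ 2 ∣ n ∧ ((g ^ n : unitary R) : R) ∈ Cm E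

/-- the stabiliser of `η` -/
structure Ga (ν : unitary R →* ℤˣ × ℤˣ) (E : Subgroup (unitary R)) (η : unitary R → ℂ) (g : unitary R) : Prop where
  nz : Nz E g
  fix : ∀ n ∈ NN ν E, η (g * n * g⁻¹) = η n

theorem Ga.mul (h : Ga ν E η g) (h' : Ga ν E η t) : Ga ν E η (g * t) :=
  ⟨fun a ha => by rw [cj_mul]; exact h.nz _ (h'.nz a ha), fun n hn => by
    rw [← h'.fix n hn, ← h.fix _ (h'.nz.nn hn)]
    exact congrArg η (by group)⟩

theorem Ga.inv (h : Ga ν E η g) : Ga ν E η g⁻¹ :=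
  ⟨h.nz.inv, fun n hn => by
    rw [← h.fix _ (h.nz.inv.nn hn)]
    exact congrArg η (by group)⟩

variable (h : SA ν J E K η)
include h

theorem SA.cm (ha : a ∈ Bc E) : a ∈ Cm E := mem_Cm.2 fun d hd => ha _ (h.ab d hd)

theorem SA.comm (ha : a ∈ Bc E) (hc : c ∈ Bc E) : Commute a c := hc a (h.cm ha)

theorem SA.orth (he : At E e) (hf : At E f) (h1 : e ≠ f) : e * f = 0 := (hf.min e he.bc he.pj).resolve_right fun h2 => by
  rcases he.min f hf.bc hf.pj with h3 | h3 <;> rw [← (h.comm he.bc hf.bc).eq, h2] at h3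
  exacts [hf.ne h3, h1 h3.symm]

theorem SA.zero_of_atoms (h1 : ∀ e, At E e → a * e = 0) : a = 0 := by
  suffices h2 : ∀ k, ∀ f ∈ Bc E, Pj f → Set.ncard {x | f * x = x} = k → a * f = 0 by
    rw [← mul_one a]
    exact h2 _ 1 (one_mem _) (IsStarProjection.one R) rfl
  intro k
  induction k using Nat.strong_induction_on with
  | _ k ih =>
  rintro f hf hp rfl
  by_contra h2
  have h3 : ∀ c ∈ Bc E, Pj c → c * f ≠ f → a * (c * f) = 0 := fun c hc hq h3 =>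
    ih _ (Set.ncard_lt_ncard ⟨fun x (hx : c * f * x = x) => show f * x = x by
      rw [← hx, (h.comm hc hf).eq, ← mul_assoc, ← mul_assoc, hp.mm], fun h4 => h3 (by
      have h5 : c * f * f = f := h4 hp.mm
      rwa [mul_assoc, hp.mm] at h5)⟩) _ (mul_mem hc hf) (hq.mul hp (h.comm hc hf)) rfl
  refine h2 (h1 f ⟨hf, hp, fun e => h2 (by rw [e, mul_zero]), fun c hc hq => ?_⟩)
  by_contra h4
  refine h2 ?_
  rw [show a * f = a * (c * f) + a * ((1 - c) * f) by noncomm_ring, h3 c hc hq fun e => h4 (.inr e),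
    h3 _ (sub_mem (one_mem _) hc) hq.one_sub fun e => h4 (.inl ?_), add_zero]
  rwa [sub_mul, one_mul, sub_eq_self] at e

theorem SA.sign (he : At E e) (hd : (d : R) ∈ Bc E) (h1 : (d : R) * d * e = e) : (d : R) * e = e ∨ (d : R) * e = -e := by
  have h2 := h.comm hd he.bc
  obtain ⟨p, hp, h3, h4⟩ := exists_pj h.two (g := cut d e) (by
    rw [← cut_mul he.pj h2 h2, cut_congr (h := 1) he.pj (h2.mul_left h2) (Commute.one_left e)
      (h1.trans (one_mul e).symm), cut_one he.pj])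
  rw [← cut_e he.pj h2, h3, sub_mul, one_mul, mul_assoc]
  exact (he.min p (fun c hc => (h4 c (cut_mem he.pj h2 hd he.bc c hc).symm).symm) hp).imp
    (fun e => by rw [e, mul_zero, sub_zero]) fun e => by rw [e]; noncomm_ring

theorem SA.cut_nn (hn : n ∈ NN ν E) (he : e ∈ Bc E) (hp : Pj e) : cut n e ∈ NN ν E :=
  ⟨cut_mem hp (he _ hn.1) hn.1 (h.cm he), fun f hf hq => by
    rw [cut_cut hp hq (h.comm he hf) (he _ hn.1) (hf _ hn.1)]
    exact hn.2 _ (mul_mem he hf) (hp.mul hq (h.comm he hf))⟩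

theorem SA.split (hn : n ∈ NN ν E) (he : e ∈ Bc E) (hp : Pj e) (hf : f ∈ Bc E) (hq : Pj f) (h0 : e * f = 0) :
    η (cut n (e + f)) * η 1 = η (cut n e) * η (cut n f) := by
  rw [cut_add hp hq h0 (he _ hn.1) (hf _ hn.1)]
  refine h.mul _ (h.cut_nn hn he hp) _ (h.cut_nn hn hf hq) fun y hy => ⟨_, h.cut_nn hy he hp, ?_⟩
  have h1 := mem_Bc.1 he _ hy.1
  have h2 := mem_Bc.1 he _ hn.1
  have h3 := cut_cj hp h2 y
  rw [cj_eq_iff.2 h1.eq] at h3
  rw [← mul_assoc, mul_assoc _ (cut n f), ← (cut_orth hp hq h0 h1 (hf _ hn.1)).inv_left.eq, ← mul_assoc, ← h3,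
    cut_mul hp (h1.mul_left h2) (hp.comm_star h1), cut_mul hp h1 h2, cut_inv hp h1]

theorem SA.split3 (hn : n ∈ NN ν E) (he : e ∈ Bc E) (hp : Pj e) (hf : f ∈ Bc E) (hq : Pj f) (h0 : e * f = 0) :
    η n * η 1 * η 1 = η (cut n e) * η (cut n f) * η (cut n (1 - (e + f))) := by
  have h1 := h.split hn (add_mem he hf) (hp.add hq h0) (sub_mem (one_mem _) (add_mem he hf)) (hp.add hq h0).one_sub
    (hp.add hq h0).mul_one_sub_self
  rw [add_sub_cancel, cut_top] at h1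
  rw [h1, ← h.split hn he hp hf hq h0, mul_right_comm]

theorem SA.norm (hg : g ∈ J) (h1 : Nz E g) (hd : d ∈ E) : g * d * g⁻¹ ∈ E := by
  have h2 : ((g * d * g⁻¹ : unitary R) : R) ∈ Bc E := h1 _ (coe_mem_Bc hd)
  refine h.syl _ (mul_mem (mul_mem hg (h.le hd)) (inv_mem hg)) h2 (fun x hx => ?_) (by rw [conj_pow, h.pg d hd]; group)
  rwa [show g * d * g⁻¹ * x = x * (g * d * g⁻¹) from Subtype.ext (h2 _ (h.ab x hx)).symm, mul_inv_cancel_right]

theorem SA.odd' (hg : g ∈ J) (h1 : Ga ν E η g) : ∃ n, ¬ 2 ∣ n ∧ ∀ a ∈ Bc E, Commute ((g : R) ^ n) a :=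
  (h.odd g hg (fun _ => h.norm hg h1.nz) h1.fix).imp fun _ hn => ⟨hn.1, fun _ ha => ha _ hn.2⟩

theorem SA.fix_of_sq (hg : g ∈ J) (h1 : Ga ν E η g) (ha : a ∈ Bc E) (h2 : cj (g * g) a = a) : cj g a = a := by
  obtain ⟨n, hn, h3⟩ := h.odd' hg h1
  obtain ⟨m, rfl⟩ : ∃ m, n = 2 * m + 1 := ⟨n / 2, by omega⟩
  have h4 : Commute ((((g * g) ^ m : unitary R)) : R) a := (show Commute ((g : R) * g) a from cj_eq_iff.1 h2).pow_left m
  have h5 : cj (g ^ (2 * m + 1)) a = a := cj_eq_iff.2 (h3 a ha).eq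
  rwa [pow_succ', pow_mul, pow_two, cj_mul, cj_eq_iff.2 h4.eq] at h5

theorem SA.key (h1 : Ga ν E η g) (h2 : ν g = 1) (h3 : g * g * (g * g) = 1) (ha : a ∈ Bc E) : cj g a = a :=
  h.fix_of_sq (h.ker g h2) h1 ha (h.fix_of_sq (mul_mem (h.ker g h2) (h.ker g h2)) (h1.mul h1) ha (by rw [h3, cj_one]))

end Cfsg.Agent.KM.Two
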