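import Cfsg.Agent.KM.Two.Ab1

/-!
# KM, `l = 2` : an abelian defect group, swaps (helper34)
-/

set_option autoImplicit false
set_option linter.unusedSectionVars false
set_option maxHeartbeats 200000

namespace Cfsg.Agent.KM.Two

open Subgroup

variable {R : Type} [Ring R] [StarRing R] [Finite R] {e f e' f' a c : R} {g t t' s s' u d n : unitary R}
  {J E : Subgroup (unitary R)} {ν : unitary R →* ℤˣ × ℤˣ} {K : ℕ} {η : unitary R → ℂ}

/-- `s` is the swap of `e` and `f` defined by `t` -/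
structure Sw (t : unitary R) (e f : R) (s : unitary R) : Prop where
  s1 : (s : R) * e = t * e
  s2 : (s : R) * f = -(star (t : R) * f)
  s3 : (s : R) * (1 - (e + f)) = 1 - (e + f)
  t1 : star (s : R) * e = -(f * t)
  t2 : star (s : R) * f = e * star (t : R)
  t3 : star (s : R) * (1 - (e + f)) = 1 - (e + f)
  cm : Commute (s : R) (e + f)
  sq : (s : R) * s * (e + f) = -(e + f)

theorem exists_sw (he : Pj e) (hf : cj t e = f) (h0 : e * f = 0) : ∃ s, Sw t e f s := by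
  have hq : Pj f := hf ▸ he.cj t
  have h1 : (t : R) * e = f * t := cj_eq_iff.1 hf
  have h2 : e * star (t : R) = star (t : R) * f := by rw [← he.st, ← star_mul, h1, star_mul, hq.st]
  have h3 : f * e = 0 := by rw [← he.st, ← hq.st, ← star_mul, h0, star_zero]
  have e1 := he.mm
  have e2 := hq.mm
  obtain ⟨a, ha⟩ : ∃ a, (t : R) * e = a := ⟨_, rfl⟩
  obtain ⟨b, hb⟩ : ∃ b, star (t : R) * f = b := ⟨_, rfl⟩
  have a1 : a * e = a := by rw [← ha, mul_assoc, e1]
  have a2 : a * f = 0 := by rw [← ha, mul_assoc, h0, mul_zero]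
  have a3 : e * a = 0 := by rw [← ha, h1, ← mul_assoc, h0, zero_mul]
  have a4 : f * a = a := by rw [← ha, h1, ← mul_assoc, e2]
  have b1 : b * e = 0 := by rw [← hb, mul_assoc, h3, mul_zero]
  have b2 : b * f = b := by rw [← hb, mul_assoc, e2]
  have b3 : e * b = b := by rw [← hb, ← h2, ← mul_assoc, e1]
  have b4 : f * b = 0 := by rw [← hb, ← h2, ← mul_assoc, h3, zero_mul]
  have c1 : a * a = 0 := by rw [← a1, mul_assoc, ← mul_assoc e, a3, zero_mul, mul_zero]
  have c2 : b * b = 0 := by rw [← b2, mul_assoc, ← mul_assoc f, b4, zero_mul, mul_zero]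
  have c3 : a * b = f := by rw [← ha, mul_assoc, b3, ← hb, ← mul_assoc, Unitary.mul_star_self_of_mem t.2, one_mul]
  have c4 : b * a = e := by rw [← hb, mul_assoc, a4, ← ha, ← mul_assoc, Unitary.coe_star_mul_self, one_mul]
  have h4 : star (a - b + (1 - (e + f))) = b - a + (1 - (e + f)) := by
    rw [star_add, star_sub, Pj.st (he.add hq h0).one_sub, ← ha, ← hb, star_mul, star_mul, he.st, hq.st, star_star, h1, h2]
  refine ⟨⟨a - b + (1 - (e + f)), mem_uni ?_⟩, ?_, ?_, ?_, ?_, ?_, ?_, ?_, ?_⟩ <;>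
    simp only [Commute, SemiconjBy, h4, ← h1, h2, ha, hb, mul_add, add_mul, mul_sub, sub_mul, mul_one, one_mul, a1, a2, a3,
      a4, b1, b2, b3, b4, c1, c2, c3, c4, e1, e2, h0, h3, zero_mul] <;> abel

theorem Sw.cj_e (hs : Sw t e f s) (he : Pj e) (hf : cj t e = f) : cj s e = f := by
  have h1 := congrArg star hs.t2
  rw [star_mul, star_mul, star_star, star_star, he.st, (hf ▸ he.cj t : Pj f).st] at h1
  exact cj_eq_iff.2 (hs.s1.trans h1.symm)

theorem Sw.eq_cut (hs : Sw t e f s) (hp : Pj (e + f)) : s = cut s (e + f) := Two.eq_cut hp hs.cm rfl hs.s3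

theorem Sw.four (hs : Sw t e f s) : s * s * (s * s) = 1 := Subtype.ext (ext2 (e + f)
  (by rw [coe_mul', coe_mul', mul_assoc, hs.sq, mul_neg, hs.sq, neg_neg, OneMemClass.coe_one, one_mul])
  (by simp only [coe_mul', mul_assoc, hs.s3, OneMemClass.coe_one, one_mul]))

theorem Sw.val (hs : Sw t e f s) (hf : cj t e = f) (h1 : Commute a e) (h2 : Commute a f) :
    cj s a * e = cj t⁻¹ a * e ∧ cj s a * f = cj t a * f ∧ cj s a * (1 - (e + f)) = a * (1 - (e + f)) := by
  have h3 : (t : R) * e = f * t := cj_eq_iff.1 hf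
  have h4 : star (t : R) * f = e * star (t : R) := cj_eq_iff.1 (show cj t⁻¹ f = e by rw [← hf, cj_inv])
  have h5 : Commute a (1 - (e + f)) := (Commute.one_right a).sub_right (h1.add_right h2)
  simp only [cj_apply, coe_inv, star_star, mul_assoc, hs.t1, hs.t2, hs.t3, h3, h4]
  refine ⟨?_, ?_, ?_⟩
  · rw [mul_neg, ← mul_assoc a, h2.eq, mul_assoc, mul_neg, ← mul_assoc, hs.s2, neg_mul, neg_neg, mul_assoc]
  · rw [← mul_assoc a, h1.eq, mul_assoc, ← mul_assoc, hs.s1, mul_assoc]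
  · rw [h5.eq, ← mul_assoc, hs.s3]

variable (h : SA ν J E K η)
include h

theorem SA.sw_det (hs : Sw t e f s) : (ν s).1 = 1 :=
  h.det s (unit_add h.two hs.cm hs.s3 (k := 0) (by rw [zero_add, pow_one, pow_two, hs.sq]))

theorem SA.sw_ga (ht : Ga ν E η t) (he : e ∈ Bc E) (hp : Pj e) (hf : cj t e = f) (h0 : e * f = 0) (hs : Sw t e f s) :
    Ga ν E η s := by
  have h1 : f ∈ Bc E := hf ▸ ht.nz e he
  have hq : Pj f := hf ▸ hp.cj t
  have h2 : 1 - (e + f) ∈ Bc E := sub_mem (one_mem _) (add_mem he h1)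
  have h3 : Nz E s := fun a ha => by
    obtain ⟨h4, h5, h6⟩ := hs.val hf (h.comm ha he) (h.comm ha h1)
    rw [show cj s a = cj s a * e + cj s a * f + cj s a * (1 - (e + f)) by noncomm_ring, h4, h5, h6]
    exact add_mem (add_mem (mul_mem (ht.nz.inv a ha) he) (mul_mem (ht.nz a ha) h1)) (mul_mem ha h2)
  refine ⟨h3, fun n hn => mul_right_cancel₀ h.one (mul_right_cancel₀ h.one ?_)⟩
  have hm := h3.nn hn
  obtain ⟨h4, h5, h6⟩ := hs.val hf (mem_Bc.1 he _ hn.1) (mem_Bc.1 h1 _ hn.1)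
  have h7 := cut_cj hp (mem_Bc.1 he _ hn.1) t
  have h8 := cut_cj hq (mem_Bc.1 h1 _ hn.1) t⁻¹
  rw [hf] at h7
  rw [show cj t⁻¹ f = e by rw [← hf, cj_inv]] at h8
  rw [h.split3 hm he hp h1 hq h0, h.split3 hn he hp h1 hq h0,
    cut_congr hp (he _ hm.1) (he _ (ht.nz.inv.nn hn).1) h4, cut_congr hq (h1 _ hm.1) (h1 _ (ht.nz.nn hn).1) h5,
    cut_congr (hp.add hq h0).one_sub (h2 _ hm.1) (h2 _ hn.1) h6, h7, h8, ht.fix _ (h.cut_nn hn he hp),
    ht.inv.fix _ (h.cut_nn hn h1 hq), mul_comm (η (cut n f))]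

/-- two moved pairs of atoms meet -/
theorem SA.meet (ht : Ga ν E η t) (ht' : Ga ν E η t') (he : At E e) (he' : At E e') (hf : cj t e = f) (hf' : cj t' e' = f')
    (h1 : e ≠ f) (h2 : e' ≠ f') : e = e' ∨ e = f' ∨ f = e' ∨ f = f' := by
  by_contra h3
  simp only [not_or] at h3
  have hq : At E f := hf ▸ he.cj ht.nz
  have hq' : At E f' := hf' ▸ he'.cj ht'.nz
  obtain ⟨s, hs⟩ := exists_sw he.pj hf (h.orth he hq h1)
  obtain ⟨s', hs'⟩ := exists_sw he'.pj hf' (h.orth he' hq' h2)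
  have g1 := h.sw_ga ht he.bc he.pj hf (h.orth he hq h1) hs
  have g2 := h.sw_ga ht' he'.bc he'.pj hf' (h.orth he' hq' h2) hs'
  have p1 := he.pj.add hq.pj (h.orth he hq h1)
  have p2 := he'.pj.add hq'.pj (h.orth he' hq' h2)
  have h4 : e * (e' + f') = 0 := by rw [mul_add, h.orth he he' h3.1, h.orth he hq' h3.2.1, add_zero]
  have h5 : Commute s s' := by
    rw [hs.eq_cut p1, hs'.eq_cut p2]
    exact cut_orth p1 p2 (by rw [add_mul, h4, mul_add, h.orth hq he' h3.2.2.1, h.orth hq hq' h3.2.2.2, add_zero, add_zero])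
      hs.cm hs'.cm
  have h6 : cj s' e = e := cj_eq_iff.2 (by
    have h6 : e = e * (1 - (e' + f')) := by rw [mul_sub, h4, mul_one, sub_zero]
    have h7 : e = (1 - (e' + f')) * e := by
      rw [sub_mul, ← (h.comm he.bc (add_mem he'.bc hq'.bc)).eq, h4, one_mul, sub_zero]
    calc (s' : R) * e = e := by rw [h7, ← mul_assoc, hs'.s3]
      _ = e * s' := by
        rw [h6, mul_assoc, ← ((Commute.one_right _).sub_right hs'.cm).eq, hs'.s3])
  rcases v2 _ _ (h.sw_det hs) (h.sw_det hs') with h7 | h7 | h7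
  · exact h1 ((h.key g1 h7 hs.four he.bc).symm.trans (hs.cj_e he.pj hf))
  · exact h2 ((h.key g2 h7 hs'.four he'.bc).symm.trans (hs'.cj_e he'.pj hf'))
  · refine h1 ((h.key (g1.mul g2) (by rwa [map_mul]) ?_ he.bc).symm.trans (by rw [cj_mul, h6, hs.cj_e he.pj hf]))
    rw [h5.symm.mul_mul_mul_comm, ((h5.symm.mul_left h5.symm).mul_right (h5.symm.mul_left h5.symm)).mul_mul_mul_comm,
      hs.four, hs'.four, mul_one]

/-- no element of order four on a moved atom -/
theorem SA.no_four (ht : Ga ν E η t) (he : At E e) (hf : cj t e = f) (h1 : e ≠ f) (hd : (d : R) ∈ Bc E) :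
    (d : R) * d * e ≠ -e := fun h2 => by
  have hq : At E f := hf ▸ he.cj ht.nz
  have h0 := h.orth he hq h1
  have h0' := h.orth hq he h1.symm
  obtain ⟨s, hs⟩ := exists_sw he.pj hf h0
  have d1 := h.comm hd he.bc
  have d2 : Commute ((-(t * d * t⁻¹) : unitary R) : R) f := (h.comm (ht.nz _ hd) hq.bc).neg_left
  have h3 := cut_mul_val he.pj hq.pj h0 d1 d2
  have h4 : (t : R) * e = f * t := cj_eq_iff.1 hf
  have h5 : star (t : R) * f = e * star (t : R) := cj_eq_iff.1 (show cj t⁻¹ f = e by rw [← hf, cj_inv])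
  rw [← coe_mul', Unitary.coe_neg, ← cj_coe] at h3
  have d3 : Commute (cj t d) f := h.comm (ht.nz _ hd) hq.bc
  generalize cut d e * cut (-(t * d * t⁻¹)) f = i at h3
  have i1 : (i : R) * e = d * e := by
    simp only [h3, add_mul, sub_mul, mul_assoc, he.pj.mm, h0', one_mul, mul_zero, sub_self, add_zero]
  have i2 : (i : R) * f = -(cj t d * f) := by
    simp only [h3, add_mul, sub_mul, mul_assoc, hq.pj.mm, h0, one_mul, mul_zero, sub_self, add_zero, zero_add, sub_zero,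
      neg_mul]
  have i3 : (i : R) ∈ Bc E := h3 ▸ add_mem (add_mem (mul_mem hd he.bc) (mul_mem (neg_mem (ht.nz _ hd)) hq.bc))
    (sub_mem (sub_mem (one_mem _) he.bc) hq.bc)
  obtain ⟨g, hg⟩ := quat h.two (i := i) (s := s) (he.pj.add hq.pj h0) (h.comm i3 (add_mem he.bc hq.bc)) hs.cm
    (by rw [mul_sub, mul_add, i1, i2, h3]; noncomm_ring) hs.s3 (by
      rw [mul_add, mul_assoc, i1, d1.eq, ← mul_assoc, i1, mul_assoc, ← d1.eq, ← mul_assoc, h2, mul_assoc, i2, d3.eq, mul_neg,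
        ← mul_assoc, i2, neg_mul, neg_neg, mul_assoc, ← d3.eq, ← mul_assoc, ← hf, ← map_mul, ← map_mul, h2, map_neg, neg_add])
    hs.sq (by
      rw [mul_add, mul_add, neg_add]
      congr 1
      · rw [mul_assoc, i1, d1.eq, ← mul_assoc, hs.s1, mul_assoc (i : R), hs.s1, h4, ← mul_assoc, i2, neg_mul, neg_neg,
          mul_assoc (cj t d), ← h4, ← mul_assoc, cj_mul_self, mul_assoc, mul_assoc, d1.eq]
      · rw [mul_assoc, i2, d3.eq, mul_neg, ← mul_assoc, hs.s2, neg_mul, neg_neg, mul_assoc (i : R), hs.s2, mul_neg, neg_neg,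
          mul_assoc, ← d3.eq, h5, ← mul_assoc (i : R), i1, mul_assoc, ← h5, cj_apply, ← mul_assoc, ← mul_assoc, ← mul_assoc,
          Unitary.coe_star_mul_self, one_mul, mul_assoc])
  have h6 := congrArg ν hg
  rw [map_mul, map_mul, map_mul, mul_comm, mul_left_inj, left_eq_mul] at h6
  exact h1 ((h.key (h.sw_ga ht he.bc he.pj hf h0 hs) h6 hs.four he.bc).symm.trans (hs.cj_e he.pj hf))

theorem SA.sign_moved (ht : Ga ν E η t) (he : At E e) (h1 : e ≠ cj t e) (hd : d ∈ E) :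
    (d : R) * e = e ∨ (d : R) * e = -e := by
  suffices h2 : ∀ k : ℕ, ∀ d ∈ E, d ^ 2 ^ k = 1 → (d : R) * e = e ∨ (d : R) * e = -e from h2 K d hd (h.pg d hd)
  intro k
  induction k with
  | zero => intro d _ hk; rw [pow_zero, pow_one] at hk; exact .inl (by rw [hk, OneMemClass.coe_one, one_mul])
  | succ k ih =>
    intro d hd hk
    exact h.sign he (coe_mem_Bc hd) ((ih _ (mul_mem hd hd) (by rw [← pow_two, ← pow_mul, ← pow_succ', hk])).resolve_right
      (h.no_four ht he rfl h1 (coe_mem_Bc hd)))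

theorem SA.fixed (hg : g ∈ J) (ht : Ga ν E η g) (he : At E e) (h1 : cj g e = e) (hd : d ∈ E) : cj g d * e = d * e := by
  obtain ⟨n, hn, h2⟩ := h.odd' hg ht
  have h3 : ∀ d : E, Commute ((E.subtype d : unitary R) : R) e := fun d => h.comm (coe_mem_Bc d.2) he.bc
  have h4 : ∀ d ∈ E, g * cut d e * g⁻¹ = cut (g * d * g⁻¹) e := fun d hd => by
    rw [← cut_cj he.pj (g := d) (h3 ⟨d, hd⟩), h1]
  have h5 : ∀ x ∈ (cutH E.subtype he.pj h3).range, (x : R) ∈ Bc E := fun _ ⟨d, e⟩ =>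
    e ▸ cut_mem he.pj (h3 d) (coe_mem_Bc d.2) he.bc
  have h6 := fix_of_omega (Z := (cutH E.subtype he.pj h3).range) (t := g)
    (fun x hx y hy => Subtype.ext (h.comm (h5 x hx) (h5 y hy))) (fun _ ⟨d, e⟩ => ⟨⟨_, h.norm hg ht.nz d.2⟩, e ▸ (h4 d d.2).symm⟩)
    hn (fun x hx => Subtype.ext (h2 _ (h5 x hx))) (fun x hx hxx => Subtype.ext (by
      obtain ⟨d, rfl⟩ := hx
      have h6 := cut_e' he.pj (h3 d)
      have h7 := h.sign he (h5 _ ⟨d, rfl⟩) (by rw [← coe_mul', hxx, OneMemClass.coe_one, one_mul])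
      change cj g (cut d e : R) = cut (d : unitary R) e
      change (cut (d : unitary R) e : R) * e = e ∨ (cut (d : unitary R) e : R) * e = -e at h7
      change (cut (d : unitary R) e : R) * (1 - e) = 1 - e at h6
      generalize (cut (d : unitary R) e : R) = x at h6 h7
      rw [show x = x * e + x * (1 - e) by noncomm_ring, h6]
      rcases h7 with h7 | h7 <;> simp only [h7, map_add, map_sub, map_neg, map_one, h1])) K _ ⟨⟨d, hd⟩, rfl⟩
    (h.cut_pg he.pj hd (h3 ⟨d, hd⟩))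
  change g * cut d e * g⁻¹ = cut d e at h6
  rw [cj_coe, ← cut_e he.pj (g := g * d * g⁻¹) (h3 ⟨_, h.norm hg ht.nz hd⟩), ← cut_e he.pj (g := d) (h3 ⟨d, hd⟩)]
  exact congrArg (fun x : unitary R => (x : R) * e) ((h4 d hd).symm.trans h6)

end Cfsg.Agent.KM.Two
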