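import Cfsg.Agent.KM.Two.Row
import Cfsg.Agent.KM.Two.Main

/-!
# S4999, `l = 2` : the rows of the symplectic and orthogonal groups, unconditionally (helper36)
-/

set_option autoImplicit false

namespace Cfsg.Agent.KM.Two

theorem ev_psp : RowFor (Ev CPsp) := row_psp boxA boxN

theorem ev_odd (h : O73) : RowFor (Ev COdd) := row_odd boxA boxN h

theorem ev_plus : RowFor (Ev CPlus) := row_plus boxA boxN

theorem ev_minus : RowFor (Ev CMinus) := row_minus boxA boxN

end Cfsg.Agent.KM.Two
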