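import Cfsg.Agent.KM.Two.Blk2
import Cfsg.Agent.TO.FO.Box
import Cfsg.Agent.ClassicalGeometry.OmegaIndex

/-!
# S4999, `l = 2` : the frames of `Sp` and `Ω` in odd characteristic (helper36)
-/

set_option autoImplicit false
set_option linter.unusedSectionVars false

namespace Cfsg.Agent.KM.Two

open Cfsg Matrix Cfsg.Agent.KM.BK

variable {ι : Type} [Fintype ι] [DecidableEq ι] {F : Type} [Field F]

/-- the adjoint with respect to a symmetric or alternating form -/
@[reducible] def adS {J K : Matrix ι ι F} (h : J * K = 1) (hs : Jᵀ = J ∨ Jᵀ = -J) : StarRing (Matrix ι ι F) where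
  star A := K * Aᵀ * J
  star_involutive A := by
    have h1 := mul_eq_one_comm.1 h
    have h2 : Jᵀ * Kᵀ = 1 := by rw [← transpose_mul, h1, transpose_one]
    have h3 : ∀ L : Matrix ι ι F, J * L = 1 → L = K := fun L hL => by rw [← one_mul L, ← h1, mul_assoc, hL, mul_one]
    change K * (K * Aᵀ * J)ᵀ * J = A
    rw [transpose_mul, transpose_mul, transpose_transpose]
    rcases hs with hs | hs
    · rw [hs] at h2
      rw [h3 _ h2, hs, ← mul_assoc, h1, one_mul, mul_assoc, h1, mul_one]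
    · rw [hs, neg_mul, ← mul_neg] at h2
      rw [hs, neg_mul, ← mul_neg, ← mul_neg, h3 _ h2, ← mul_assoc, h1, one_mul, mul_assoc, h1, mul_one]
  star_mul A B := by
    change K * (A * B)ᵀ * J = K * Bᵀ * J * (K * Aᵀ * J)
    rw [transpose_mul, mul_assoc (K * Bᵀ), ← mul_assoc J, ← mul_assoc J, h, one_mul, mul_assoc, mul_assoc, mul_assoc]
  star_add A B := by
    change K * (A + B)ᵀ * J = K * Aᵀ * J + K * Bᵀ * J
    rw [transpose_add, mul_add, add_mul]

open Classical in
/-- the sign of a homomorphism with values `±1` -/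
noncomputable def sgnHom {Γ : Type} [Group Γ] (h2 : (2 : F) ≠ 0) (d : Γ →* F) (hd : ∀ g, d g * d g = 1) : Γ →* ℤˣ where
  toFun g := if d g = 1 then 1 else -1
  map_one' := if_pos d.map_one
  map_mul' g h := by
    have h1 : (-1 : F) ≠ 1 := fun h => h2 (by linear_combination -h)
    rw [map_mul]
    rcases mul_self_eq_one_iff.1 (hd g) with a | a <;> rcases mul_self_eq_one_iff.1 (hd h) with b | b <;>
      simp [a, b, h1]

theorem sgnHom_eq_one {Γ : Type} [Group Γ] (h2 : (2 : F) ≠ 0) (d : Γ →* F) (hd : ∀ g, d g * d g = 1) (g : Γ) :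
    sgnHom h2 d hd g = 1 ↔ d g = 1 := by
  by_cases h : d g = 1 <;> simp [sgnHom, h]

/-- **the isometry groups of forms** -/
theorem kmg_of_form (hA : BoxA) (hN : BoxN) [Finite F] (h2 : (2 : F) ≠ 0) {J K : Matrix ι ι F} (h : J * K = 1)
    (hs : Jᵀ = J ∨ Jᵀ = -J) {Γ : Type} [Group Γ] (i : Γ →* Matrix ι ι F) (hi : Function.Injective i)
    (hΓ : ∀ g, gᵀ * J * g = J ↔ ∃ x, i x = g) (ε : Γ →* ℤˣ) {Y : Type} [Group Y] [Finite Y] (j : Y →* Γ)
    (hj : Function.Injective j) (hk : ∀ x, (i x).det = 1 → ε x = 1 → x ∈ j.range)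
    (hz : ∀ y, y ∈ Subgroup.center Y ↔ i (j y) = 1 ∨ i (j y) = -1) {M : Ideal AlgInt} (hM : IsPModular 2 M) :
    KMg 2 M (Y ⧸ Subgroup.center Y) := by
  let _ := adS h hs
  have h1 := mul_eq_one_comm.1 h
  have hst : ∀ A : Matrix ι ι F, star A = K * Aᵀ * J := fun _ => rfl
  have hu : ∀ g : Matrix ι ι F, g ∈ unitary (Matrix ι ι F) ↔ ∃ x, i x = g := fun g => by
    rw [← hΓ, Unitary.mem_iff, mul_eq_one_comm (a := g), and_self, hst, mul_assoc, mul_assoc, ← mul_assoc gᵀ]
    exact ⟨fun h3 => by rw [← one_mul (gᵀ * J * g), ← h, mul_assoc, h3, mul_one], fun h3 => by rw [h3, h1]⟩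
  have hdet : ∀ A : Matrix ι ι F, (star A).det = A.det := fun A => by
    rw [hst, det_mul, det_mul, det_transpose, mul_right_comm, ← det_mul, h1, det_one, one_mul]
  let e : Γ ≃* unitary (Matrix ι ι F) := MulEquiv.ofBijective (i.codRestrict _ fun x => (hu _).2 ⟨x, rfl⟩)
    ⟨fun a b hab => hi (congrArg Subtype.val hab), fun g => ((hu _).1 g.2).imp fun x hx => Subtype.ext hx⟩
  have he : ∀ x, (e x : Matrix ι ι F) = i x := fun _ => rfl
  let d : unitary (Matrix ι ι F) →* F := detMonoidHom.comp (unitary (Matrix ι ι F)).subtype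
  have hd : ∀ g, d g * d g = 1 := fun g => by
    have := congrArg det (Unitary.coe_star_mul_self g)
    rwa [det_mul, hdet, det_one] at this
  let f : Fm (Matrix ι ι F) Y :=
    { j := e.toMonoidHom.comp j
      inj := e.injective.comp hj
      two := by
        have := (IsUnit.mk0 _ h2).map (algebraMap F (Matrix ι ι F))
        rwa [map_ofNat] at this
      ν := (sgnHom h2 d hd).prod (ε.comp e.symm.toMonoidHom)
      ker := fun g hg => by
        obtain ⟨x, rfl⟩ := e.surjective g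
        obtain ⟨y, rfl⟩ := hk x ((sgnHom_eq_one h2 d hd _).1 (congrArg Prod.fst hg))
          (by simpa using congrArg Prod.snd hg)
        exact ⟨y, rfl⟩
      det := fun g hg => (sgnHom_eq_one h2 d hd _).2 (by
        have h3 : star (1 + (g : Matrix ι ι F)) * g = 1 + g := by
          rw [star_add, star_one, add_mul, one_mul, Unitary.coe_star_mul_self, add_comm]
        have h4 := congrArg det h3
        rw [det_mul, hdet] at h4
        exact mul_left_cancel₀ ((isUnit_iff_isUnit_det _).1 hg).ne_zero (h4.trans (mul_one _).symm)) }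
  exact kmg_of_fm hA hN f (QuotientGroup.mk' _) (QuotientGroup.mk'_surjective _)
    (fun y => (QuotientGroup.eq_one_iff y).trans (hz y)) hM

/-- **the symplectic groups** -/
theorem kmg_psp (hA : BoxA) (hN : BoxN) [Finite F] (h2 : (2 : F) ≠ 0) {m : ℕ} (hm : 1 ≤ m) {M : Ideal AlgInt}
    (hM : IsPModular 2 M) : KMg 2 M (PSp m F) := by
  refine kmg_of_form hA hN h2 (J := J (Fin m) F) (K := -J (Fin m) F) (by rw [mul_neg, J_squared, neg_neg])
    (.inr (J_transpose _ _)) (symplecticGroup (Fin m) F).subtype Subtype.val_injective (fun g => ?_) 1 (MonoidHom.id _)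
    Function.injective_id (fun x _ _ => ⟨x, rfl⟩) (fun y => ?_) hM
  · rw [← SymplecticGroup.mem_iff']
    exact ⟨fun h => ⟨⟨g, h⟩, rfl⟩, fun ⟨x, hx⟩ => hx ▸ x.2⟩
  · rw [LieClassical.SympCenter.mem_center_iff]
    change _ ↔ y.1 = 1 ∨ y.1 = -1
    refine ⟨fun ⟨a, ha⟩ => ?_, fun h => h.elim (fun h => ⟨1, by rw [h, one_smul]⟩) fun h => ⟨-1, by rw [h, neg_one_smul]⟩⟩
    rcases mul_self_eq_one_iff.1 (LieClassical.SympCenter.sq_eq_one_of_smul_mem hm (ha ▸ y.2)) with h | h
    · exact .inl (by rw [ha, h, one_smul])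
    · exact .inr (by rw [ha, h, neg_one_smul])

/-- **the orthogonal groups** -/
theorem kmg_pomega (hA : BoxA) (hN : BoxN) [Finite F] (h2 : (2 : F) ≠ 0) (Q : QuadraticForm F (ι → F))
    (hQ : (QuadraticMap.polarBilin Q).Nondegenerate) (h3 : 3 ≤ Fintype.card ι) {M : Ideal AlgInt}
    (hM : IsPModular 2 M) : KMg 2 M (POmega F Q) := by
  set J : Matrix ι ι F := LinearMap.BilinForm.toMatrix' (QuadraticMap.polarBilin Q) with hJ
  have h1 : ∀ u v, u ⬝ᵥ J *ᵥ v = QuadraticMap.polar Q u v := fun u v => by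
    rw [← Matrix.toBilin'_apply', hJ, Matrix.toBilin'_toMatrix']
    rfl
  have h4 : ∀ A B : Matrix ι ι F, (∀ u v, u ⬝ᵥ A *ᵥ v = u ⬝ᵥ B *ᵥ v) → A = B := fun A B h => by
    ext a b
    simpa using h (Pi.single a 1) (Pi.single b 1)
  have h5 : ∀ (g : Matrix ι ι F) u v, u ⬝ᵥ (gᵀ * J * g) *ᵥ v = QuadraticMap.polar Q (g *ᵥ u) (g *ᵥ v) := fun g u v => by
    rw [← h1, ← vecMul_transpose g, ← dotProduct_mulVec, mulVec_mulVec, mulVec_mulVec]
  have h6 : IsUnit J.det := (Matrix.nondegenerate_iff_det_ne_zero.1 (LinearMap.BilinForm.Nondegenerate.toMatrix' hQ)).isUnit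
  refine kmg_of_form hA hN h2 (mul_nonsing_inv J h6) (.inl (h4 _ _ fun u v => ?_))
    ((Units.coeHom _).comp (isometryGroup F Q).subtype) (Units.val_injective.comp Subtype.val_injective) (fun g => ?_)
    (ClassicalGeometry.SpinorSign.spinorSign Q 1) (Omega F Q).subtype Subtype.val_injective (fun x a b => ?_)
    (TO.FO.center_Omega (fun v hv => hQ.1 v hv) h3) hM
  · rw [mulVec_transpose, dotProduct_comm, ← dotProduct_mulVec, h1, h1, QuadraticMap.polar_comm]
  · refine ⟨fun h => ⟨⟨Matrix.GeneralLinearGroup.mkOfDetNeZero g fun h0 => h6.ne_zero ?_, fun u _ => ?_⟩, rfl⟩,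
      fun ⟨x, hx⟩ => h4 _ _ fun u v => ?_⟩
    · rw [← h, det_mul, h0, mul_zero]
    · have h7 := h5 g u u
      rw [h, h1, QuadraticMap.polar_self, QuadraticMap.polar_self, two_nsmul, two_nsmul, ← two_mul, ← two_mul] at h7
      exact (mul_left_cancel₀ h2 h7).symm
    · have h7 : ∀ w, Q (g *ᵥ w) = Q w := fun w => hx ▸ x.2 w w
      rw [h5, h1, QuadraticMap.polar, ← mulVec_add, h7, h7, h7, QuadraticMap.polar]
  · rw [Subgroup.range_subtype]
    exact (ClassicalGeometry.OmegaIndex.mem_Omega_iff h2 Q hQ (by omega) one_ne_zero x).2 ⟨a, b⟩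

end Cfsg.Agent.KM.Two
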