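import Cfsg.Agent.KM.Two.Base

/-!
# KM, `l = 2` : a group whose commutators are `± 1`, first part (helper34)
-/

set_option autoImplicit false
set_option linter.unusedSectionVars false
set_option maxHeartbeats 200000

namespace Cfsg.Agent.KM.Two

open Subgroup

variable {R : Type} [Ring R] [StarRing R] [Finite R] {e f a c : R} {g t u d x y z : unitary R}
  {J E : Subgroup (unitary R)} {ν : unitary R →* ℤˣ × ℤˣ} {K : ℕ}

open Classical in
theorem exists_sg {H : Type} [Group H] (T : H → R → R) (hm : ∀ a b v, T (a * b) v = T a (T b v))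
    (hn : ∀ a v, T a (-v) = -T a v) {v : R} (hv : v ≠ -v) (h : ∀ a, T a v = v ∨ T a v = -v) :
    ∃ s : H →* ℤˣ, ∀ a, s a = 1 ↔ T a v = v := by
  refine ⟨MonoidHom.mk' (fun a => if T a v = v then 1 else -1) fun a b => ?_, fun a => by simp⟩
  rw [hm]
  rcases h a with h1 | h1 <;> rcases h b with h2 | h2 <;> simp [h1, h2, hn, hv.symm]

theorem sq3 {G : Type} [Group G] [Finite G] {Z : Subgroup G} (hZ : ∀ x ∈ Z, ∀ y ∈ Z, Commute x y) {m : G}
    (h : ∀ w ∈ Z, w * w = 1 → w = 1 ∨ w = m) {u v : G} (hu : u ∈ Z) (hv : v ∈ Z) :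
    ∃ w ∈ Z, u = w * w ∨ v = w * w ∨ u * v = w * w := by
  classical
  let σ : Z →* Z := MonoidHom.mk' (fun w => w * w) fun a b => Subtype.ext ((hZ b b.2 a a.2).mul_mul_mul_comm a b)
  have h1 : σ.range.index ≤ 2 := by
    rw [index_range]
    refine (Nat.card_le_card_of_injective (fun w : σ.ker => (⟨w.1.1, ?_⟩ : ({1, m} : Finset G))) fun a b e =>
      Subtype.ext (Subtype.ext (Subtype.mk.inj e))).trans ?_
    · simpa using h _ w.1.2 (congrArg Subtype.val w.2)
    · rw [Nat.card_eq_finsetCard]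
      exact Finset.card_le_two
  have h2 : ∀ a : Z, a ∈ σ.range → ∃ w ∈ Z, (a : G) = w * w := fun a ⟨w, e⟩ => ⟨w, w.2, congrArg Subtype.val e.symm⟩
  by_cases h3 : (⟨u, hu⟩ : Z) ∈ σ.range
  · exact (h2 _ h3).imp fun w hw => ⟨hw.1, .inl hw.2⟩
  by_cases h4 : (⟨v, hv⟩ : Z) ∈ σ.range
  · exact (h2 _ h4).imp fun w hw => ⟨hw.1, .inr (.inl hw.2)⟩
  have h5 : σ.range.index ≠ 1 := fun e => h3 (index_eq_one.1 e ▸ mem_top _)
  have h6 : σ.range.index ≠ 0 := index_ne_zero_of_finite
  exact (h2 _ ((mul_mem_iff_of_index_two (by omega)).2 (iff_of_false h3 h4))).imp fun w hw => ⟨hw.1, .inr (.inr hw.2)⟩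

theorem cut_mul_val (he : Pj e) (hf : Pj f) (h0 : e * f = 0) (h1 : Commute (g : R) e) (h2 : Commute (u : R) f) :
    (cut g e : R) * cut u f = g * e + u * f + (1 - e - f) := by
  rw [cut_val he h1, cut_val hf h2, show (g * e + (1 - e)) * (u * f + (1 - f)) =
    g * e * (u * f) + g * e - g * (e * f) + u * f - e * (u * f) + 1 - f - e + e * f by noncomm_ring, h2.eq,
    mul_assoc, ← mul_assoc e, h0]
  noncomm_ring

/-- the cut as a homomorphism -/
noncomputable def cutH {H : Type} [Group H] (ι : H →* unitary R) (he : Pj e) (h : ∀ y, Commute (ι y : R) e) :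
    H →* unitary R := MonoidHom.mk' (fun y => cut (ι y) e) fun a b => by rw [map_mul, cut_mul he (h a) (h b)]

/-- the setting -/
structure SN (ν : unitary R →* ℤˣ × ℤˣ) (J E : Subgroup (unitary R)) (K : ℕ) : Prop extends St ν J E K where
  hc : ∀ x ∈ E, ∀ y ∈ E, (x : R) * y = y * x ∨ (x : R) * y = -(y * x)
  hm : -1 ∈ E

theorem SN.neg (h : SN ν J E K) (hx : x ∈ E) : -x ∈ E := by rw [← neg_one_mul]; exact mul_mem h.hm hx

theorem comm_pj (two : IsUnit (2 : R)) (hz : (z : R) = 1 - 2 * e) (h : Commute a z) : Commute a e :=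
  two.mul_left_cancel (by
    have h1 := h.eq
    rw [hz, mul_sub, sub_mul, mul_one, one_mul, sub_right_inj, ← mul_assoc, ← (Commute.ofNat_left 2 a).eq] at h1
    rw [← mul_assoc, h1, mul_assoc])

theorem anti_pj (two : IsUnit (2 : R)) (hz : (z : R) = 1 - 2 * e) (h : z * a = -(a * z)) : a * e = (1 - e) * a :=
  two.mul_left_cancel (by
    rw [hz, sub_mul, mul_sub, one_mul, mul_one, ← mul_assoc, ← (Commute.ofNat_left 2 a).eq, mul_assoc, mul_assoc] at h
    calc 2 * (a * e) = -(a - 2 * (a * e)) + a := by abel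
      _ = _ := by rw [← h]; noncomm_ring)

theorem conj_mem_of (hd : d ∈ E) (hz : z ∈ E) (h : (g : R) * d = d * z * g) : g * d * g⁻¹ ∈ E := by
  rw [show g * d * g⁻¹ = d * z from mul_inv_eq_iff_eq_mul.2 (Subtype.ext h)]
  exact mul_mem hd hz

theorem SN.norm_cut (h : SN ν J E K) (hz : z ∈ E) (he : Pj e) (hze : (z : R) = 1 - 2 * e) (hu : u ∈ E)
    (hue : Commute (u : R) e) (h1 : e ∈ Cm E ∨ u * u = 1 ∨ u * u = -1) (hd : d ∈ E) :
    cut u e * d * (cut u e)⁻¹ ∈ E := by
  by_cases hde : Commute (d : R) e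
  · rcases h.hc u hu d hd with h2 | h2
    · exact conj_mem_of hd (one_mem _) (by rw [OneMemClass.coe_one, mul_one]; exact cut_comm he hue h2 hde.symm)
    · refine conj_mem_of hd hz (ext2 e ?_ ?_)
      · rw [mul_assoc, hde.eq, ← mul_assoc, cut_e he hue, mul_assoc, ← hde.eq, ← mul_assoc, h2, mul_assoc _ _ e,
          cut_e he hue, hue.eq, hze, mul_assoc _ (1 - 2 * e), ← mul_assoc (1 - 2 * e), sub_mul, mul_assoc 2, he.mm,
          neg_mul, mul_assoc _ _ e, hue.eq]
        noncomm_ring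
      · have h3 : Commute (d : R) (1 - e) := (Commute.one_right _).sub_right hde
        rw [mul_assoc, h3.eq, ← mul_assoc, cut_e' he hue, mul_assoc _ _ (1 - e), cut_e' he hue, hze,
          mul_assoc _ (1 - 2 * e), sub_mul 1 (2 * e), mul_assoc 2, he.mul_one_sub_self, ← h3.eq]
        noncomm_ring
  · have h2 : (d : R) * e = (1 - e) * d :=
      anti_pj h.two hze ((h.hc z hz d hd).resolve_left fun h2 => hde (comm_pj h.two hze h2.symm))
    have h3 : cj d e = 1 - e := cj_eq_iff.2 h2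
    have h4 : u⁻¹ = u ∨ u⁻¹ = -u := by
      rcases h1 with h1 | h1 | h1
      · exact (hde (mem_Cm.1 h1 d hd)).elim
      · exact .inl (inv_eq_of_mul_eq_one_right h1)
      · exact .inr (inv_eq_of_mul_eq_one_right (by rw [mul_neg, h1, neg_neg]))
    have h5 : d * u⁻¹ * d⁻¹ = u ∨ d * u⁻¹ * d⁻¹ = -u := by
      have h6 : d * u = u * d ∨ d * u = -(u * d) := (h.hc d hd u hu).imp Subtype.ext Subtype.ext
      rcases h4 with h4 | h4 <;> rcases h6 with h6 | h6 <;> simp [h4, h6]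
    have h6 := cut_cj he (he.comm_star hue) (g := u⁻¹) d
    rw [cut_inv he hue, h3] at h6
    have h7 : Commute (u : R) (1 - e) := (Commute.one_right _).sub_right hue
    rw [show cut u e * d * (cut u e)⁻¹ = cut u e * (d * (cut u e)⁻¹ * d⁻¹) * d by group, ← h6]
    refine mul_mem ?_ hd
    rcases h5 with h5 | h5 <;> rw [h5]
    · rw [← cut_add he he.one_sub he.mul_one_sub_self hue h7, add_sub_cancel, cut_top]
      exact hu
    · rw [show cut u e * cut (-u) (1 - e) = -(u * z) from Subtype.ext (by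
        rw [coe_mul', cut_mul_val he he.one_sub he.mul_one_sub_self hue (u := -u) h7.neg_left, Unitary.coe_neg,
          Unitary.coe_neg, coe_mul', hze]
        noncomm_ring)]
      exact h.neg (mul_mem hu hz)

theorem bc_pj (two : IsUnit (2 : R)) (hz : z ∈ E) (hze : (z : R) = 1 - 2 * e) : e ∈ Bc E := fun _ hc =>
  comm_pj two hze (mem_Cm.1 hc z hz).symm

theorem St.cut_pg (h : St ν J E K) (he : Pj e) (hu : u ∈ E) (hue : Commute (u : R) e) : cut u e ^ 2 ^ K = 1 := by
  rw [← cut_pow he hue, h.pg u hu, cut_one he]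

theorem SN.cut_mem (h : SN ν J E K) (hz : z ∈ E) (he : Pj e) (hze : (z : R) = 1 - 2 * e) (hu : u ∈ E)
    (hue : Commute (u : R) e) (h1 : e ∈ Cm E ∨ u * u = 1 ∨ u * u = -1) (h2 : ν (cut u e) = 1) : cut u e ∈ E :=
  h.syl _ (h.ker _ h2) (Two.cut_mem he hue (coe_mem_Bc hu) (bc_pj h.two hz hze))
    (fun _ => h.norm_cut hz he hze hu hue h1) (h.cut_pg he hu hue)

theorem SN.cent_of_fix (h : SN ν J E K) (hg : g ∈ E) (hd : d ∈ E) (h1 : (g : R) * f = f) (h0 : f ≠ 0)
    (h2 : Commute (d : R) f) : Commute (g : R) d := (h.hc g hg d hd).resolve_right fun h3 => h0 (by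
  refine coe_cancel (g := d) (eq_zero_of_neg h.two ?_)
  have h4 := congrArg (· * f) h3
  simp only [neg_mul, mul_assoc, h1] at h4
  rwa [h2.eq, ← mul_assoc, h1, ← h2.eq] at h4)

theorem SN.cent_of_e (h : SN ν J E K) (hy : y ∈ E) (hd : d ∈ E) (h1 : a * e = y * e) (h2 : Commute a d)
    (h3 : Commute (d : R) e) (h0 : e ≠ 0) : Commute (y : R) d := (h.hc y hy d hd).resolve_right fun h4 => h0 (by
  refine coe_cancel (g := y) (coe_cancel (g := d) (eq_zero_of_neg h.two ?_))
  have h5 := congrArg (· * e) h4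
  simp only [neg_mul, mul_assoc] at h5
  rwa [h3.eq, ← mul_assoc, ← h1, mul_assoc, ← h3.eq, ← mul_assoc, h2.eq, mul_assoc, h1] at h5)

end Cfsg.Agent.KM.Two
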