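import Cfsg.Agent.KM.Two.Nab1

/-!
# KM, `l = 2` : a group whose commutators are `± 1`, central involutions (helper34)
-/

set_option autoImplicit false
set_option linter.unusedSectionVars false
set_option maxHeartbeats 200000

namespace Cfsg.Agent.KM.Two

open Subgroup

variable {R : Type} [Ring R] [StarRing R] [Finite R] {e e' f a : R} {g t u d x y z : unitary R}
  {J E : Subgroup (unitary R)} {ν : unitary R →* ℤˣ × ℤˣ} {K : ℕ}

/-- the centre -/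
def Z0 (E : Subgroup (unitary R)) : Subgroup (unitary R) := E ⊓ centralizer (E : Set (unitary R))

theorem mem_Z0 : z ∈ Z0 E ↔ z ∈ E ∧ (z : R) ∈ Cm E := and_congr_right fun _ =>
  ⟨fun h => mem_Cm.2 fun d hd => congrArg Subtype.val (h d hd), fun h d hd => Subtype.ext (mem_Cm.1 h d hd)⟩

/-- good projections -/
structure Gd (E : Subgroup (unitary R)) (e : R) : Prop where
  pj : Pj e
  cm : e ∈ Cm E
  ex : ∃ z ∈ E, (z : R) = 1 - 2 * e

theorem Gd.c (he : Gd E e) (hy : y ∈ E) : Commute (y : R) e := mem_Cm.1 he.cm y hy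

theorem SN.gd_sub (h : SN ν J E K) (he : Gd E e) : Gd E (1 - e) :=
  ⟨he.pj.one_sub, sub_mem (one_mem _) he.cm, by
    obtain ⟨z, hz, e⟩ := he.ex
    exact ⟨-z, h.neg hz, by rw [Unitary.coe_neg, e]; noncomm_ring⟩⟩

theorem exists_gd (two : IsUnit (2 : R)) (hz : z ∈ Z0 E) (h : z * z = 1) : ∃ e, Gd E e ∧ (z : R) = 1 - 2 * e := by
  obtain ⟨e, h1, h2, h3⟩ := exists_pj two h
  exact ⟨e, ⟨h1, mem_Cm.2 fun d hd => (h3 d (mem_Cm.1 (mem_Z0.1 hz).2 d hd).symm).symm, z, hz.1, h2⟩, h2⟩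

theorem SN.kerA (h : SN ν J E K) (he : Gd E e) (h0 : e ≠ 0) (h1 : 1 - e ≠ 0) (hy : y ∈ E) (h2 : ν (cut y e) = 1) :
    y ∈ Z0 E := by
  obtain ⟨z, hz, hze⟩ := he.ex
  have h3 := h.cut_mem hz he.pj hze hy (he.c hy) (.inl he.cm) h2
  exact mem_Z0.2 ⟨hy, mem_Cm.2 fun d hd => (h.cent_of_e hy hd (cut_e he.pj (he.c hy))
    (h.cent_of_fix h3 hd (cut_e' he.pj (he.c hy)) h1 ((h.gd_sub he).c hd)) (he.c hd) h0).symm⟩

theorem anti_ne (two : IsUnit (2 : R)) (h0 : (1 : R) ≠ 0) (hxy : (x : R) * y = -(y * x)) : ¬ Commute (x : R) y :=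
  fun h => h0 (coe_cancel (g := x) (coe_cancel (g := y) (eq_zero_of_neg two (by rw [mul_one, ← hxy, h.eq]))))

theorem not_Z0 (two : IsUnit (2 : R)) (h0 : (1 : R) ≠ 0) (hx : x ∈ E) (hy : y ∈ E) (hxy : (x : R) * y = -(y * x)) :
    x ∉ Z0 E ∧ y ∉ Z0 E ∧ x * y ∉ Z0 E :=
  ⟨fun h => anti_ne two h0 hxy (mem_Cm.1 (mem_Z0.1 h).2 y hy).symm,
    fun h => anti_ne two h0 hxy (mem_Cm.1 (mem_Z0.1 h).2 x hx), fun h => anti_ne two h0 (x := x * y) (y := y)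
      (by rw [coe_mul', ← mul_assoc, ← neg_mul, ← hxy]) (mem_Cm.1 (mem_Z0.1 h).2 y hy).symm⟩

section A

variable (h : SN ν J E K) (hx : x ∈ E) (hy : y ∈ E) (hxy : (x : R) * y = -(y * x))
include h hx hy hxy

theorem SN.surjA (he : Gd E e) (h0 : e ≠ 0) (h1 : 1 - e ≠ 0) (v : ℤˣ × ℤˣ) :
    v = 1 ∨ ∃ w ∈ E, w ∉ Z0 E ∧ v * ν (cut w e) = 1 := by
  obtain ⟨h2, h3, h4⟩ := not_Z0 h.two (fun e1 => h0 (by rw [← one_mul e, e1, zero_mul])) hx hy hxy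
  have h5 : ν (cut x e) * ν (cut y e) = ν (cut (x * y) e) := by rw [cut_mul he.pj (he.c hx) (he.c hy), map_mul]
  rcases v4 _ _ v (fun e => h2 (h.kerA he h0 h1 hx e)) (fun e => h3 (h.kerA he h0 h1 hy e))
    (fun e => h4 (h.kerA he h0 h1 (mul_mem hx hy) (h5 ▸ e))) with h6 | h6 | h6 | h6
  exacts [.inl h6, .inr ⟨x, hx, h2, h6⟩, .inr ⟨y, hy, h3, h6⟩, .inr ⟨_, mul_mem hx hy, h4, h5 ▸ h6⟩]

theorem SN.gd_mul (he : Gd E e) (h0 : e ≠ 0) (h1 : 1 - e ≠ 0) (he' : Gd E e') : Gd E (e' * e) := by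
  obtain ⟨z, hz, hze⟩ := he.ex
  obtain ⟨w, hw, hwe⟩ := he'.ex
  have h2 : w ∈ Z0 E := mem_Z0.2 ⟨hw, hwe ▸ sub_mem (one_mem _) (mul_mem (ofNat_mem _ 2) he'.cm)⟩
  have h3 : ν (cut w e) = 1 := (h.surjA hx hy hxy he h0 h1 _).resolve_right fun ⟨v, hv, h3, h4⟩ =>
    h3 ((mul_mem_cancel_left h2).1 (h.kerA he h0 h1 (mul_mem hw hv) (by
      rw [cut_mul he.pj (he.c hw) (he.c hv), map_mul, h4])))
  refine ⟨he'.pj.mul he.pj (comm_pj h.two hze (he'.c hz).symm), mul_mem he'.cm he.cm, _,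
    h.cut_mem hz he.pj hze hw (he.c hw) (.inl he.cm) h3, ?_⟩
  rw [cut_val he.pj (he.c hw), hwe]
  noncomm_ring

theorem SN.three (he : Gd E e) (he' : Gd E e') (hf : f ∈ Cm E) (h0 : e ≠ 0) (h0' : e' ≠ 0) (hf0 : f ≠ 0)
    (h1 : e * e' = 0) (h2 : e * f = 0) (h3 : e' * f = 0) : False := by
  have h4 : ∀ {e : R}, e * f = 0 → 1 - e ≠ 0 := fun {e} h2 h4 => hf0 (by rw [← h2, ← sub_eq_zero.1 h4, one_mul])
  obtain ⟨h5, -⟩ := not_Z0 h.two (fun e1 => h0 (by rw [← one_mul e, e1, zero_mul])) hx hy hxy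
  obtain ⟨w, hw, -, h6⟩ := (h.surjA hx hy hxy he' h0' (h4 h3) (ν (cut x e))).resolve_left
    fun e => h5 (h.kerA he h0 (h4 h2) hx e)
  obtain ⟨z, hz, hze⟩ := he.ex
  obtain ⟨z', hz', hze'⟩ := he'.ex
  have h7 : cut x e * cut w e' ∈ E := h.syl _ (h.ker _ (by rw [map_mul, h6]))
    (mul_mem (Two.cut_mem he.pj (he.c hx) (coe_mem_Bc hx) (bc_pj h.two hz hze))
      (Two.cut_mem he'.pj (he'.c hw) (coe_mem_Bc hw) (bc_pj h.two hz' hze'))) (fun d hd => by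
      rw [mul_inv_rev, mul_assoc, mul_assoc, ← mul_assoc d, ← mul_assoc (cut w e'), ← mul_assoc (cut w e'), ← mul_assoc]
      exact h.norm_cut hz he.pj hze hx (he.c hx) (.inl he.cm) (h.norm_cut hz' he'.pj hze' hw (he'.c hw) (.inl he'.cm) hd))
    (by rw [(cut_orth he.pj he'.pj h1 (he.c hx) (he'.c hw)).mul_pow, h.cut_pg he.pj hx (he.c hx),
      h.cut_pg he'.pj hw (he'.c hw), mul_one])
  have h8 := cut_mul_val he.pj he'.pj h1 (he.c hx) (he'.c hw)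
  have h9 : e' * e = 0 := by rw [← he.pj.st, ← he'.pj.st, ← star_mul, h1, star_zero]
  refine h5 (mem_Z0.2 ⟨hx, mem_Cm.2 fun d hd => (h.cent_of_e hx hd ?_
    (h.cent_of_fix h7 hd ?_ hf0 (mem_Cm.1 hf d hd)) (he.c hd) h0).symm⟩)
  · simp only [coe_mul', h8, add_mul, sub_mul, mul_assoc, he.pj.mm, h9, one_mul, mul_zero, sub_self, add_zero]
  · simp only [coe_mul', h8, add_mul, sub_mul, mul_assoc, h2, h3, one_mul, mul_zero, sub_zero, zero_add]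

theorem SN.dich (he : Gd E e) (h0 : e ≠ 0) (h1 : 1 - e ≠ 0) (he' : Gd E e') : e' * e = 0 ∨ e' * e = e := by
  by_contra h2
  obtain ⟨z, hz, hze⟩ := he.ex
  have h3 : Commute e' e := comm_pj h.two hze (he'.c hz).symm
  refine h.three hx hy hxy (h.gd_mul hx hy hxy he h0 h1 he') (h.gd_mul hx hy hxy he h0 h1 (h.gd_sub he'))
    (h.gd_sub he).cm (fun e => h2 (.inl e)) (fun e1 => h2 (.inr ?_)) h1 ?_ ?_ ?_
  · rw [sub_mul, one_mul] at e1
    exact (sub_eq_zero.1 e1).symm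
  · rw [h3.eq, mul_assoc, ← mul_assoc e', he'.pj.mul_one_sub_self, zero_mul, mul_zero]
  · rw [mul_assoc, he.pj.mul_one_sub_self, mul_zero]
  · rw [mul_assoc, he.pj.mul_one_sub_self, mul_zero]

theorem SN.invA {w w' : unitary R} (hw : w ∈ Z0 E) (hw' : w' ∈ Z0 E) (h1 : w * w = 1) (h2 : w' * w' = 1) :
    w = 1 ∨ w = -1 ∨ w' = 1 ∨ w' = -1 ∨ w' = w ∨ w' = -w := by
  obtain ⟨e, he, e1⟩ := exists_gd h.two hw h1
  obtain ⟨e', he', e2⟩ := exists_gd h.two hw' h2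
  simp only [Subtype.ext_iff, Unitary.coe_neg, OneMemClass.coe_one, e1, e2]
  by_cases h3 : e = 0
  · exact .inl (by rw [h3, mul_zero, sub_zero])
  by_cases h4 : 1 - e = 0
  · exact .inr (.inl (by rw [← sub_eq_zero.1 h4]; noncomm_ring))
  have h5 : e' = e' * e + e' * (1 - e) := by noncomm_ring
  rcases h.dich hx hy hxy he h3 h4 he' with h6 | h6 <;>
    rcases h.dich hx hy hxy (h.gd_sub he) h4 (by rwa [sub_sub_cancel]) he' with h7 | h7 <;> rw [h6, h7] at h5 <;> rw [h5]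
  · exact .inr (.inr (.inl (by noncomm_ring)))
  · exact .inr (.inr (.inr (.inr (.inr (by noncomm_ring)))))
  · exact .inr (.inr (.inr (.inr (.inl (by noncomm_ring)))))
  · exact .inr (.inr (.inr (.inl (by noncomm_ring))))

end A

theorem SN.idxA (h : SN ν J E K) (he : Gd E e) (h0 : e ≠ 0) (h1 : 1 - e ≠ 0) : (Z0 E).relIndex E ≤ 4 :=
  (Nat.le_of_dvd (Nat.pos_of_ne_zero index_ne_zero_of_finite) (index_dvd_of_le
    (H := (ν.comp (cutH E.subtype he.pj fun y => he.c y.2)).ker) fun y hy => h.kerA he h0 h1 y.2 hy)).trans (index_ker_le _)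

end Cfsg.Agent.KM.Two
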