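import Cfsg.Agent.KM.Two.Defs

/-!
# KM, `l = 2` : projections, cuts and swaps in a star ring (helper34)
-/

set_option autoImplicit false
set_option linter.unusedSectionVars false
set_option maxHeartbeats 200000

namespace Cfsg.Agent.KM.Two

variable {R : Type} [Ring R] [StarRing R] [Finite R] {e f a c : R} {g h t : unitary R}

/-- projections -/
abbrev Pj (e : R) : Prop := IsStarProjection e

theorem Pj.mm (he : Pj e) : e * e = e := he.isIdempotentElem

theorem Pj.st (he : Pj e) : star e = e := he.isSelfAdjoint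

theorem mem_uni (h : star a * a = 1) : a ∈ unitary R := ⟨h, mul_eq_one_comm.1 h⟩

theorem coe_inv (t : unitary R) : ((t⁻¹ : unitary R) : R) = star (t : R) := rfl

theorem coe_mul' (s t : unitary R) : ((s * t : unitary R) : R) = s * t := rfl

theorem ext2 (e : R) (h1 : a * e = c * e) (h2 : a * (1 - e) = c * (1 - e)) : a = c := by
  rw [mul_sub, mul_sub, mul_one, mul_one, h1] at h2
  exact sub_left_injective h2

/-- conjugation -/
def cj (t : unitary R) : R →+* R where
  toFun a := t * a * star (t : R)
  map_one' := by rw [mul_one, Unitary.mul_star_self_of_mem t.2]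
  map_mul' a c := by
    rw [show t * a * star (t : R) * (t * c * star (t : R)) = t * a * (star (t : R) * t) * c * star (t : R) by
      noncomm_ring, Unitary.coe_star_mul_self]
    noncomm_ring
  map_zero' := by rw [mul_zero, zero_mul]
  map_add' a c := by rw [mul_add, add_mul]

theorem cj_apply (t : unitary R) (a : R) : cj t a = t * a * star (t : R) := rfl

theorem cj_mul (s t : unitary R) (a : R) : cj (s * t) a = cj s (cj t a) := by
  rw [cj_apply, cj_apply, cj_apply, coe_mul', star_mul]
  noncomm_ring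

theorem cj_one (a : R) : cj 1 a = a := by simp [cj_apply]

theorem cj_inv (t : unitary R) (a : R) : cj t⁻¹ (cj t a) = a := by rw [← cj_mul, inv_mul_cancel, cj_one]

theorem cj_inv' (t : unitary R) (a : R) : cj t (cj t⁻¹ a) = a := by rw [← cj_mul, mul_inv_cancel, cj_one]

theorem cj_inj (t : unitary R) : Function.Injective (cj t) := Function.LeftInverse.injective (cj_inv t)

theorem cj_coe (t g : unitary R) : cj t g = (t * g * t⁻¹ : unitary R) := rfl

theorem cj_star (t : unitary R) (a : R) : cj t (star a) = star (cj t a) := by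
  rw [cj_apply, cj_apply, star_mul, star_mul, star_star, mul_assoc]

theorem cj_mul_self (t : unitary R) (a : R) : cj t a * t = t * a := by
  rw [cj_apply, mul_assoc, Unitary.coe_star_mul_self, mul_one]

theorem cj_eq_iff : cj t a = c ↔ t * a = c * t :=
  ⟨fun h => by rw [← h, cj_mul_self], fun h => by rw [cj_apply, h, mul_assoc, Unitary.mul_star_self_of_mem t.2, mul_one]⟩

theorem Pj.cj (he : Pj e) (t : unitary R) : Pj (cj t e) :=
  ⟨show _ * _ = _ by rw [← map_mul, he.mm], show star _ = _ by rw [← cj_star, he.st]⟩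

theorem Pj.comm_star (he : Pj e) (h : Commute a e) : Commute (star a) e := by
  have h1 := congrArg star h.eq
  rw [star_mul, star_mul, he.st] at h1
  exact h1.symm

open Classical in
/-- the cut of `g` to the image of `e` -/
noncomputable def cut (g : unitary R) (e : R) : unitary R :=
  if h : Pj e ∧ Commute (g : R) e then ⟨g * e + (1 - e), mem_uni (by
    have h1 := h.1.mm
    have h2 := h.1.one_sub_mul_self
    have h3 := h.1.mul_one_sub_self
    rw [star_add, star_mul, h.1.st, Pj.st h.1.one_sub, add_mul, mul_add, mul_add, Pj.mm h.1.one_sub, h.2.eq, ← mul_assoc (1 - e),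
      h2, zero_mul, ← (h.1.comm_star h.2).eq, mul_assoc _ e (1 - e), h3, mul_zero, mul_assoc, ← mul_assoc e, h1,
      ← h.2.eq, ← mul_assoc, Unitary.coe_star_mul_self]
    noncomm_ring)⟩ else 1

theorem cut_val (he : Pj e) (hg : Commute (g : R) e) : (cut g e : R) = g * e + (1 - e) := by rw [cut, dif_pos ⟨he, hg⟩]

theorem cut_e (he : Pj e) (hg : Commute (g : R) e) : (cut g e : R) * e = g * e := by
  rw [cut_val he hg, add_mul, he.one_sub_mul_self, add_zero, mul_assoc, he.mm]

theorem cut_e' (he : Pj e) (hg : Commute (g : R) e) : (cut g e : R) * (1 - e) = 1 - e := by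
  rw [cut_val he hg, add_mul, Pj.mm he.one_sub, mul_assoc, he.mul_one_sub_self, mul_zero, zero_add]

theorem cut_comm (he : Pj e) (hg : Commute (g : R) e) (h1 : Commute (g : R) a) (h2 : Commute e a) :
    Commute (cut g e : R) a := by
  rw [cut_val he hg]
  exact (h1.mul_left h2).add_left ((Commute.one_left a).sub_left h2)

theorem cut_ce (he : Pj e) (hg : Commute (g : R) e) : Commute (cut g e : R) e := cut_comm he hg hg (Commute.refl e)

theorem eq_cut (he : Pj e) (hg : Commute (g : R) e) (h1 : (h : R) * e = g * e) (h2 : (h : R) * (1 - e) = 1 - e) :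
    h = cut g e := Subtype.ext (ext2 e (h1.trans (cut_e he hg).symm) (h2.trans (cut_e' he hg).symm))

theorem cut_mul (he : Pj e) (hg : Commute (g : R) e) (hh : Commute (h : R) e) : cut (g * h) e = cut g e * cut h e :=
  (eq_cut he (hg.mul_left hh) (by
    rw [coe_mul', coe_mul', mul_assoc, cut_e he hh, hh.eq, ← mul_assoc, cut_e he hg, mul_assoc, ← hh.eq, mul_assoc])
    (by rw [coe_mul', mul_assoc, cut_e' he hh, cut_e' he hg])).symm

theorem cut_one (he : Pj e) : cut 1 e = 1 := (eq_cut he (Commute.one_left e) rfl (one_mul _)).symm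

theorem cut_top (g : unitary R) : cut g 1 = g :=
  (eq_cut (IsStarProjection.one R) (Commute.one_right _) rfl (by rw [sub_self, mul_zero])).symm

theorem cut_inv (he : Pj e) (hg : Commute (g : R) e) : cut g⁻¹ e = (cut g e)⁻¹ :=
  eq_inv_of_mul_eq_one_left (by rw [← cut_mul he (he.comm_star hg) hg, inv_mul_cancel, cut_one he])

theorem cut_pow (he : Pj e) (hg : Commute (g : R) e) (n : ℕ) : cut (g ^ n) e = cut g e ^ n := by
  induction n with
  | zero => rw [pow_zero, pow_zero, cut_one he]
  | succ n ih => rw [pow_succ, pow_succ, cut_mul he (hg.pow_left n) hg, ih]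

theorem cut_cj (he : Pj e) (hg : Commute (g : R) e) (t : unitary R) :
    cut (t * g * t⁻¹) (cj t e) = t * cut g e * t⁻¹ :=
  Subtype.ext (by
    rw [cut_val (he.cj t) (hg.map (cj t)), ← cj_coe, ← cj_coe, cut_val he hg, map_add, map_mul, map_sub, map_one])

theorem cut_cut (he : Pj e) (hf : Pj f) (h0 : Commute e f) (h1 : Commute (g : R) e) (h2 : Commute (g : R) f) :
    cut (cut g e) f = cut g (e * f) := Subtype.ext (by
  rw [cut_val hf (cut_comm he h1 h2 h0), cut_val he h1, cut_val (he.mul hf h0) (h1.mul_right h2)]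
  noncomm_ring)

theorem cut_add (he : Pj e) (hf : Pj f) (h0 : e * f = 0) (h1 : Commute (g : R) e) (h2 : Commute (g : R) f) :
    cut g (e + f) = cut g e * cut g f := Subtype.ext (by
  have h3 : f * e = 0 := by rw [← he.st, ← hf.st, ← star_mul, h0, star_zero]
  rw [coe_mul', cut_val (he.add hf h0) (h1.add_right h2), cut_val he h1, cut_val hf h2,
    show (g * e + (1 - e)) * (g * f + (1 - f)) = g * (e * g) * f + g * e - g * (e * f) + g * f - e * g * f + 1 - f - e +
      e * f by noncomm_ring, ← h1.eq, mul_assoc, mul_assoc, h0]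
  noncomm_ring)

theorem cut_orth (he : Pj e) (hf : Pj f) (h0 : e * f = 0) (h1 : Commute (g : R) e) (h2 : Commute (h : R) f) :
    Commute (cut g e) (cut h f) := by
  have h3 : f * e = 0 := by rw [← he.st, ← hf.st, ← star_mul, h0, star_zero]
  have h4 : ∀ {e f : R} {g h : unitary R}, Pj e → Pj f → e * f = 0 → Commute (g : R) e → Commute (h : R) f →
      (cut g e : R) * cut h f = g * e + h * f + (1 - e - f) := fun {e f g h} he hf h0 h1 h2 => by
    rw [cut_val he h1, cut_val hf h2, show (g * e + (1 - e)) * (h * f + (1 - f)) =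
      g * e * (h * f) + g * e - g * (e * f) + h * f - e * (h * f) + 1 - f - e + e * f by noncomm_ring, h2.eq,
      mul_assoc, ← mul_assoc e, h0]
    noncomm_ring
  refine Subtype.ext ?_
  rw [coe_mul', coe_mul', h4 he hf h0 h1 h2, h4 hf he h3 h2 h1]
  abel

/-- `1 + g` is invertible if a power of `g` is `-1` on `e` -/
theorem unit_add (two : IsUnit (2 : R)) (he : Commute (g : R) e) (h1 : (g : R) * (1 - e) = 1 - e) {k : ℕ}
    (h2 : (g : R) ^ 2 ^ (k + 1) * e = -e) : IsUnit (1 + (g : R)) := by
  refine IsLeftRegular.isUnit_of_finite ((isLeftRegular_iff_right_eq_zero_of_mul).2 fun x hx => ?_)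
  have h3 : (g : R) * x = -x := by rw [add_mul, one_mul] at hx; exact eq_neg_of_add_eq_zero_right hx
  have h4 : ∀ n : ℕ, (g : R) ^ (2 * n) * x = x := fun n => by
    induction n with
    | zero => rw [mul_zero, pow_zero, one_mul]
    | succ n ih => rw [mul_add, pow_add, mul_assoc, mul_one, pow_two, mul_assoc, h3, mul_neg, h3, neg_neg, ih]
  have h5 : e * x = 0 := two.mul_left_cancel (by
    have h6 := h4 (2 ^ k)
    rw [← pow_succ'] at h6
    have h7 : e * x = -(e * x) := by
      nth_rewrite 1 [← h6]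
      rw [← mul_assoc, ← (he.pow_left _).eq, h2, neg_mul]
    rw [two_mul, mul_zero]
    exact add_eq_zero_iff_eq_neg.2 h7)
  have h6 : (1 - e) * x = x := by rw [sub_mul, one_mul, h5, sub_zero]
  rw [← h6, ← mul_assoc, h1, h6] at h3
  exact two.mul_left_cancel (by rw [two_mul, mul_zero]; exact add_eq_zero_iff_eq_neg.2 h3)

/-- a quaternion group is normalised by an element of order three -/
theorem quat (two : IsUnit (2 : R)) {i s : unitary R} (hf : Pj f) (i0 : Commute (i : R) f) (s0 : Commute (s : R) f)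
    (i1 : (i : R) * (1 - f) = 1 - f) (s1 : (s : R) * (1 - f) = 1 - f) (i2 : (i : R) * i * f = -f)
    (s2 : (s : R) * s * f = -f) (h : (s : R) * i * f = -(i * s * f)) : ∃ h : unitary R, h * i = i * s * h := by
  obtain ⟨u, hu⟩ := two.exists_left_inv
  have hu' : 2 * u = 1 := mul_eq_one_comm.1 hu
  have u1 : ∀ x, Commute u x := fun x => by
    have h1 : Commute (2 : R) x := Commute.ofNat_left 2 x
    calc u * x = u * x * (2 * u) := by rw [hu', mul_one]
      _ = x * u := by rw [← mul_assoc, mul_assoc u, ← h1.eq, ← mul_assoc, hu, one_mul]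
  have u2 : star u = u := by
    have h1 := congrArg star hu
    rw [star_mul, star_ofNat, star_one] at h1
    exact two.mul_left_cancel (h1.trans hu'.symm)
  have key : ∀ {i : unitary R}, Commute (i : R) f → (i : R) * i * f = -f → star (i * f : R) = -(i * f) ∧
      i * f * (i * f) = -f ∧ f * (i * f) = i * f ∧ i * f * f = i * f := fun {i} i0 i2 => by
    refine ⟨?_, by rw [mul_assoc, ← mul_assoc f, ← i0.eq, mul_assoc, hf.mm, ← mul_assoc, i2],
      by rw [← mul_assoc, ← i0.eq, mul_assoc, hf.mm], by rw [mul_assoc, hf.mm]⟩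
    rw [star_mul, hf.st, ← (hf.comm_star i0).eq, ← neg_neg (star (i : R) * f), ← mul_neg, ← i2, ← mul_assoc, ← mul_assoc,
      Unitary.coe_star_mul_self, one_mul]
  obtain ⟨a1, a2, a3, a4⟩ := key i0 i2
  obtain ⟨b1, b2, b3, b4⟩ := key s0 s2
  have c1 : s * f * (i * f) = -(i * f * (s * f)) := by
    rw [mul_assoc, a3, mul_assoc (i : R), b3, ← mul_assoc, ← mul_assoc, h]
  have ei : (i : R) = i * f + (1 - f) := by rw [← i1]; noncomm_ring
  have es : (s : R) = s * f + (1 - f) := by rw [← s1]; noncomm_ring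
  generalize (i : R) * f = a at *
  generalize (s : R) * f = b at *
  have r1 : ∀ x, x * a * a = -(x * f) := fun x => by rw [mul_assoc, a2, mul_neg]
  have r2 : ∀ x, x * b * b = -(x * f) := fun x => by rw [mul_assoc, b2, mul_neg]
  have r3 : ∀ x, x * b * a = -(x * a * b) := fun x => by rw [mul_assoc, c1, mul_neg, mul_assoc]
  have r4 : ∀ x, x * f * a = x * a := fun x => by rw [mul_assoc, a3]
  have r5 : ∀ x, x * f * b = x * b := fun x => by rw [mul_assoc, b3]
  have r6 : ∀ x, x * a * f = x * a := fun x => by rw [mul_assoc, a4]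
  have r7 : ∀ x, x * b * f = x * b := fun x => by rw [mul_assoc, b4]
  have r8 : ∀ x, x * f * f = x * f := fun x => by rw [mul_assoc, hf.mm]
  have f1 := hf.mm
  have h1 : (-f - a - b - a * b) * (-f + a + b + a * b) = 2 * (2 * f) := by
    simp only [mul_add, sub_mul, neg_mul, mul_neg, ← mul_assoc, r2, r3, r7, a2, a3, a4, b2, b3, b4, c1, f1,
      neg_neg]
    noncomm_ring
  have h2 : (-f - a - b - a * b) * (1 - f) = 0 := by
    simp only [mul_sub, sub_mul, neg_mul, mul_one, r7, a4, b4, f1]
    abel
  have h3 : (1 - f) * (-f + a + b + a * b) = 0 := by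
    simp only [mul_add, sub_mul, mul_neg, one_mul, ← mul_assoc, a3, b3, f1]
    abel
  have h4 : (-f + a + b + a * b) * (a + (1 - f)) = (a + (1 - f)) * (b + (1 - f)) * (-f + a + b + a * b) := by
    simp only [mul_add, add_mul, mul_sub, sub_mul, neg_mul, mul_neg, one_mul, mul_one, ← mul_assoc, r2, r3, r7,
      a2, a3, a4, b2, b3, b4, c1, f1, neg_neg]
    abel
  have h5 : (1 - f) * (a + (1 - f)) = (a + (1 - f)) * (b + (1 - f)) * (1 - f) := by
    simp only [mul_add, add_mul, mul_sub, sub_mul, one_mul, mul_one, r7, a3, a4, b3, b4, f1]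
    abel
  refine ⟨⟨u * (-f + a + b + a * b) + (1 - f), mem_uni ?_⟩, Subtype.ext ?_⟩
  · rw [star_add, star_mul, u2, Pj.st hf.one_sub, show star (-f + a + b + a * b) = -f - a - b - a * b by
      rw [star_add, star_add, star_add, star_neg, star_mul, a1, b1, hf.st, neg_mul_neg, c1]; abel, ← (u1 _).eq, add_mul,
      mul_add _ (u * _) (1 - f), mul_add _ (u * _) (1 - f), mul_assoc u _ (1 - f), h2, ← mul_assoc (1 - f), ← (u1 _).eq, mul_assoc u (1 - f), h3,
      Pj.mm hf.one_sub, mul_assoc u, ← mul_assoc _ u, ← (u1 _).eq, mul_assoc u, h1, ← mul_assoc u 2, hu, one_mul,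
      ← mul_assoc u 2, hu]
    noncomm_ring
  · show (u * _ + (1 - f)) * (i : R) = i * s * (u * _ + (1 - f))
    rw [ei, es, add_mul, mul_assoc u, h4, h5, mul_add ((a + (1 - f)) * (b + (1 - f))) (u * _), ← mul_assoc _ u, ← (u1 _).eq,
      mul_assoc u]

end Cfsg.Agent.KM.Two
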